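import Mathlib

/-!
# Arithmetic of the core configuration
-/

set_option autoImplicit false

namespace H17.CSy

theorem two_dvd_of_sq {a : ℕ} (h : 2 ∣ a ^ 2) : ∃ c, a = 2 * c := Nat.prime_two.dvd_of_dvd_pow h

theorem core_arith {O m : ℕ} {b : ℤ} (hO : Odd O) (hm : Odd m)
    (hm3 : m.Coprime 3) (hmO : m.Coprime O)
    (h : (48 * O * m : ℤ) * (b - 1) ^ 2 = 13824 * (O : ℤ) ^ 3 * b * (b + 1)) (hb0 : b ≠ 0)
    (hb1 : b ≠ -1) :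
    (b - 1).natAbs = 24 * O ∧ b.natAbs * (b + 1).natAbs = 2 * m := by
  obtain ⟨u, hu⟩ : ∃ u, (b - 1).natAbs = u := ⟨_, rfl⟩
  obtain ⟨v, hv⟩ : ∃ v, b.natAbs * (b + 1).natAbs = v := ⟨_, rfl⟩
  rw [hu, hv]
  have hvi : (v : ℤ) = b * (b + 1) := by
    rw [← hv, ← Int.natAbs_mul, Int.natAbs_of_nonneg]
    rcases le_or_gt 0 b with h0 | h0
    · positivity
    · nlinarith
  have hui : (u : ℤ) ^ 2 = (b - 1) ^ 2 := hu ▸ Int.natAbs_sq _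
  have hOpos : 0 < O := hO.pos
  have h' : 48 * O * m * u ^ 2 = 13824 * O ^ 3 * v := by
    zify
    rw [hui, hvi, h]; ring
  have h1 : m * u ^ 2 = 288 * O ^ 2 * v := by
    refine Nat.eq_of_mul_eq_mul_left (show 0 < 48 * O by positivity) ?_
    rw [← mul_assoc, h']; ring
  have hcop : m.Coprime (288 * O ^ 2) := by
    rw [show 288 = 2 ^ 5 * 3 ^ 2 by norm_num]
    exact (((Nat.coprime_two_right.mpr hm).pow_right 5).mul_right (hm3.pow_right 2)).mul_right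
      (hmO.pow_right 2)
  obtain ⟨w, hw⟩ := hcop.dvd_of_dvd_mul_left (h1 ▸ dvd_mul_right m (u ^ 2))
  have hmpos : 0 < m := hm.pos
  have h2 : u ^ 2 = 288 * O ^ 2 * w :=
    Nat.eq_of_mul_eq_mul_left hmpos (by rw [h1, hw]; ring)
  have hg : ∀ d : ℕ, d ∣ u → d ∣ v → d ∣ 2 := by
    intro d hdu hdv
    have a1 : (d : ℤ) ∣ b - 1 := Int.natCast_dvd.mpr (hu ▸ hdu)
    have a2 : (d : ℤ) ∣ b * (b + 1) := hvi ▸ Int.natCast_dvd_natCast.mpr hdv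
    have : (d : ℤ) ∣ 2 := by
      have := dvd_sub a2 (a1.mul_right (b + 2))
      rwa [show b * (b + 1) - (b - 1) * (b + 2) = 2 by ring] at this
    exact_mod_cast this
  obtain ⟨u1, rfl⟩ := two_dvd_of_sq (a := u) ⟨144 * O ^ 2 * w, by rw [h2]; ring⟩
  obtain ⟨u2, rfl⟩ := two_dvd_of_sq (a := u1) ⟨36 * O ^ 2 * w, by nlinarith⟩
  obtain ⟨u3, rfl⟩ := two_dvd_of_sq (a := u2) ⟨9 * O ^ 2 * w, by nlinarith⟩
  have h3 : 2 * u3 ^ 2 = 9 * O ^ 2 * w := by nlinarith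
  have hc : (2 : ℕ).Coprime (9 * O ^ 2) :=
    Nat.Coprime.mul_right (by norm_num) ((Nat.coprime_two_left.mpr hO).pow_right 2)
  obtain ⟨w', rfl⟩ := hc.dvd_of_dvd_mul_left (h3 ▸ dvd_mul_right 2 (u3 ^ 2))
  have h4 : u3 ^ 2 = 9 * O ^ 2 * w' := by nlinarith
  obtain ⟨u4, rfl⟩ := Nat.prime_three.dvd_of_dvd_pow
    (show 3 ∣ u3 ^ 2 from ⟨3 * O ^ 2 * w', by rw [h4]; ring⟩)
  have h5 : u4 ^ 2 = O ^ 2 * w' := by nlinarith
  obtain ⟨r, rfl⟩ := (Nat.pow_dvd_pow_iff two_ne_zero).mp (h5 ▸ dvd_mul_right (O ^ 2) w')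
  have h6 : r ^ 2 = w' := Nat.eq_of_mul_eq_mul_left (show 0 < O ^ 2 by positivity)
    (by rw [← h5]; ring)
  subst h6
  have hr : r ∣ 2 := hg r ⟨2 * (2 * (2 * (3 * O))), by ring⟩ ⟨2 * m * r, by rw [hw]; ring⟩
  rcases (Nat.dvd_prime Nat.prime_two).mp hr with rfl | rfl
  · exact ⟨by ring, by rw [hw]; ring⟩
  · exact absurd (hg 4 ⟨12 * O, by ring⟩ ⟨2 * m, by rw [hw]; ring⟩) (by decide)

end H17.CSy
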