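import Mathlib

/-!
# Finite group lemmas for the core configuration
-/

set_option autoImplicit false

namespace H17.CSy

open Subgroup
open scoped Pointwise

universe u

variable {G : Type u} [Group G]

theorem orderOf_conj (x g : G) : orderOf (x * g * x⁻¹) = orderOf g :=
  orderOf_injective (MulAut.conj x).toMonoidHom (MulAut.conj x).injective g

theorem commute_conj_iff (x a b : G) : Commute (x * a * x⁻¹) (x * b * x⁻¹) ↔ Commute a b :=
  ⟨fun h => (MulAut.conj x).injective (by simpa only [map_mul, MulAut.conj_apply] using h.eq),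
   fun h => by simpa using h.map (MulAut.conj x).toMonoidHom⟩

theorem mem_centralizer_one {g a : G} : g ∈ centralizer ({a} : Set G) ↔ Commute g a := by
  rw [mem_centralizer_singleton_iff]
  rfl

theorem mem_of_pow_mem_coprime (H : Subgroup G) {g : G} {a b : ℕ} (hab : a.Coprime b)
    (ha : g ^ a ∈ H) (hb : g ^ b ∈ H) : g ∈ H := by
  have h := Nat.gcd_eq_gcd_ab a b
  rw [hab.gcd_eq_one, Nat.cast_one] at h
  have : g = (g ^ a) ^ Nat.gcdA a b * (g ^ b) ^ Nat.gcdB a b := by
    rw [← zpow_natCast g a, ← zpow_natCast g b, ← zpow_mul, ← zpow_mul, ← zpow_add, ← h, zpow_one]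
  rw [this]
  exact mul_mem (zpow_mem ha _) (zpow_mem hb _)

variable [Finite G]

/-- An element of prime power order is conjugate into a subgroup carrying the full `q`-part. -/
theorem exists_conj_mem (H : Subgroup G) {q : ℕ} (hq : q.Prime)
    (hv : (Nat.card G).factorization q = (Nat.card H).factorization q) {w : G} {k : ℕ}
    (hw : orderOf w = q ^ k) : ∃ x : G, x * w * x⁻¹ ∈ H := by
  haveI : Fact q.Prime := ⟨hq⟩
  obtain ⟨Q⟩ : Nonempty (Sylow q H) := inferInstance
  let Q' : Subgroup G := (Q : Subgroup H).map H.subtype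
  have hcard : Nat.card Q' = q ^ (Nat.card G).factorization q := by
    rw [card_map_of_injective H.subtype_injective, Q.card_eq_multiplicity, hv]
  let S : Sylow q G := Sylow.ofCard Q' hcard
  have hp : IsPGroup q (zpowers w) := IsPGroup.of_card (n := k) (by rw [Nat.card_zpowers, hw])
  obtain ⟨R, hR⟩ := hp.exists_le_sylow
  obtain ⟨x, hx⟩ := MulAction.exists_smul_eq G R S
  refine ⟨x, map_subtype_le (Q : Subgroup H) ?_⟩
  have h1 : x * w * x⁻¹ ∈ ((x • R : Sylow q G) : Subgroup G) := by
    show x * w * x⁻¹ ∈ (MulAut.conj x • (R : Subgroup G))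
    exact ⟨w, hR (mem_zpowers w), rfl⟩
  rw [hx] at h1
  exact h1

theorem exists_pow_orderOf_eq {g : G} {q : ℕ} (hd : q ∣ orderOf g) :
    ∃ w : G, (∃ i : ℕ, w = g ^ i) ∧ orderOf w = q := by
  refine ⟨g ^ (orderOf g / q), ⟨_, rfl⟩, orderOf_pow_orderOf_div (orderOf_pos g).ne' hd⟩

omit [Finite G] in
theorem pow_mem_index_two {H K : Subgroup G} (hle : H ≤ K) (hc : Nat.card K = 2 * Nat.card H)
    [Finite G] {g : G} (hg : g ∈ K) : g ^ 2 ∈ H := by
  have hi : (H.subgroupOf K).index = 2 := by
    have h1 := (H.subgroupOf K).card_mul_index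
    rw [Nat.card_congr (subgroupOfEquivOfLe hle).toEquiv, hc, mul_comm 2] at h1
    exact Nat.eq_of_mul_eq_mul_left Nat.card_pos h1
  simpa [mem_subgroupOf] using sq_mem_of_index_two hi ⟨g, hg⟩

theorem mem_index_two_of_odd {H K : Subgroup G} (hle : H ≤ K) (hc : Nat.card K = 2 * Nat.card H)
    {g : G} (hg : g ∈ K) (ho : Odd (orderOf g)) : g ∈ H := by
  refine mem_of_pow_mem_coprime H (Nat.coprime_two_left.mpr ho) (pow_mem_index_two hle hc hg) ?_
  rw [pow_orderOf_eq_one]
  exact one_mem H

/-- Two commuting elements of prime order `s` in a group with cyclic Sylow `s`-subgroups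
generate the same subgroup. -/
theorem mem_zpowers_of_commute {s : ℕ} (hs : s.Prime) (hcyc : ∀ S : Sylow s G, IsCyclic S)
    {w v : G} (hw : orderOf w = s) (hv : orderOf v = s) (hc : Commute w v) : v ∈ zpowers w := by
  haveI : Fact s.Prime := ⟨hs⟩
  have hle : zpowers v ≤ normalizer ((zpowers w : Subgroup G) : Set G) := by
    refine le_trans ?_ (Subgroup.centralizer_le_normalizer _)
    rw [zpowers_le, mem_centralizer_iff]
    rintro _ ⟨i, rfl⟩
    exact (hc.zpow_left i).eq
  have h1 : IsPGroup s (zpowers w) := IsPGroup.of_card (n := 1) (by rw [Nat.card_zpowers, hw, pow_one])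
  have h2 : IsPGroup s (zpowers v) := IsPGroup.of_card (n := 1) (by rw [Nat.card_zpowers, hv, pow_one])
  obtain ⟨S, hS⟩ := (h1.to_sup_of_normal_left' h2 hle).exists_le_sylow
  haveI := hcyc S
  classical
  haveI := Fintype.ofFinite (S : Subgroup G)
  let W : Subgroup (S : Subgroup G) := (zpowers w).subgroupOf (S : Subgroup G)
  have hsub : (Finset.univ.filter fun a => a ∈ W) ⊆
      Finset.univ.filter fun a : (S : Subgroup G) => a ^ s = 1 := fun a ha => by
    simp only [Finset.mem_filter, Finset.mem_univ, true_and, W, mem_subgroupOf] at ha ⊢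
    obtain ⟨i, hi⟩ := ha
    apply Subtype.ext
    rw [SubgroupClass.coe_pow, ← hi, OneMemClass.coe_one]
    show (w ^ i) ^ s = 1
    rw [← zpow_natCast, ← zpow_mul, mul_comm, zpow_mul, zpow_natCast, ← hw, pow_orderOf_eq_one,
      one_zpow]
  have hW : (Finset.univ.filter fun a => a ∈ W).card = s := by
    rw [← Fintype.card_subtype, ← Nat.card_eq_fintype_card]
    exact (Nat.card_congr (subgroupOfEquivOfLe (le_sup_left.trans hS)).toEquiv).trans
      (by rw [Nat.card_zpowers, hw])
  have heq := Finset.eq_of_subset_of_card_le hsub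
    (by rw [hW]; exact IsCyclic.card_pow_eq_one_le hs.pos)
  have hv1 : (⟨v, hS (mem_sup_right (mem_zpowers v))⟩ : (S : Subgroup G)) ∈
      Finset.univ.filter fun a : (S : Subgroup G) => a ^ s = 1 := by
    simp only [Finset.mem_filter, Finset.mem_univ, true_and]
    apply Subtype.ext
    simp [← hv, pow_orderOf_eq_one]
  rw [← heq] at hv1
  simpa [W, mem_subgroupOf] using hv1

/-- Counting elements whose order is divisible by `s`, for `s` with cyclic Sylow subgroup.
The normaliser of a subgroup of order `s` contains an element of order divisible by the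
number `e` of automorphisms induced when `e = s - 1`. -/
theorem singular_count {s : ℕ} (hs : s.Prime) (hcyc : ∀ S : Sylow s G, IsCyclic S)
    (hd : s ∣ Nat.card G) :
    ∃ e : ℕ, e ≤ s - 1 ∧
      Nat.card G * (s - 1) ≤ e * s * Nat.card {g : G // s ∣ orderOf g} ∧
      (e = s - 1 → ∃ n : G, s - 1 ∣ orderOf n) := by
  classical
  haveI : Fact s.Prime := ⟨hs⟩
  obtain ⟨w, hw⟩ := exists_prime_orderOf_dvd_card' (G := G) s hd
  set Y := zpowers w with hY
  set N := normalizer (Y : Set G) with hN
  set C := centralizer (Y : Set G) with hC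
  have hYcard : Nat.card Y = s := by rw [hY, Nat.card_zpowers, hw]
  haveI : IsCyclic Y := isCyclic_of_prime_card hYcard
  have hCN : C ≤ N := Subgroup.centralizer_le_normalizer _
  let φ := Y.normalizerMonoidHom
  have hker : φ.ker = C.subgroupOf N := Y.normalizerMonoidHom_ker
  have haut : Nat.card (MulAut Y) = s - 1 := by
    rw [IsCyclic.card_mulAut, hYcard, Nat.totient_prime hs]
  haveI : Finite (MulAut Y) := Nat.finite_of_card_ne_zero (by have := hs.two_le; omega)
  set e := Nat.card φ.range with he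
  have hNC : Nat.card N = e * Nat.card C := by
    rw [he, ← index_ker, hker, ← Nat.card_congr (subgroupOfEquivOfLe hCN).toEquiv,
      index_mul_card]
  refine ⟨e, haut ▸ φ.range.card_le_card_group, ?_, fun h => ?_⟩
  swap
  · have hsurj : φ.range = ⊤ := φ.range.eq_top_of_card_eq (by rw [haut]; exact h)
    haveI : IsCyclic (ZMod (Nat.card Y))ˣ := by
      rw [hYcard]; exact ZMod.isCyclic_units_prime hs
    haveI : IsCyclic (MulAut Y) := isCyclic_of_surjective
      (IsCyclic.mulAutMulEquiv Y).symm.toMonoidHom (IsCyclic.mulAutMulEquiv Y).symm.surjective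
    obtain ⟨a, ha⟩ := IsCyclic.exists_ofOrder_eq_natCard (α := MulAut Y)
    obtain ⟨n, hn⟩ : a ∈ φ.range := hsurj ▸ mem_top a
    refine ⟨(n : G), ?_⟩
    rw [← haut, ← ha, ← hn, Subgroup.orderOf_coe]
    exact orderOf_map_dvd φ n
  -- the singular elements of `C`
  let X := {g : C // s ∣ orderOf g}
  let X' := {g : C // ¬ s ∣ orderOf g}
  have hwC : ∀ g : C, Commute (g : G) w := fun g =>
    (mem_centralizer_iff.mp g.2 w (mem_zpowers w)).symm
  have hX' : s * Nat.card X' ≤ Nat.card C := by
    let Φ : Fin s × X' → C := fun x => ⟨(x.2.1 : G) * w ^ (x.1 : ℕ), mul_mem x.2.1.2 (by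
      rw [hC, mem_centralizer_iff]
      rintro v ⟨i, rfl⟩
      exact ((Commute.refl w).zpow_left i |>.pow_right _).eq)⟩
    have hinj : Function.Injective Φ := by
      intro a b hab
      have hab' : (a.2.1 : G) * w ^ (a.1 : ℕ) = (b.2.1 : G) * w ^ (b.1 : ℕ) :=
        congrArg Subtype.val hab
      set n := orderOf (a.2.1 : G) * orderOf (b.2.1 : G) with hn
      have hcop : n.Coprime s := by
        rw [hn, Subgroup.orderOf_coe, Subgroup.orderOf_coe]
        exact Nat.Coprime.mul_left ((hs.coprime_iff_not_dvd.mpr a.2.2).symm)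
          ((hs.coprime_iff_not_dvd.mpr b.2.2).symm)
      have h1 : (w ^ (a.1 : ℕ)) ^ n = (w ^ (b.1 : ℕ)) ^ n := by
        have := congrArg (· ^ n) hab'
        simp only [((hwC a.2.1).pow_right _).mul_pow, ((hwC b.2.1).pow_right _).mul_pow] at this
        rwa [orderOf_dvd_iff_pow_eq_one.mp (Dvd.intro _ rfl),
          orderOf_dvd_iff_pow_eq_one.mp (Dvd.intro_left _ rfl), one_mul, one_mul] at this
      have h2 : ∀ i : ℕ, (w ^ i) ^ n = (w ^ n) ^ i := fun i => by rw [← pow_mul, ← pow_mul, mul_comm]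
      rw [h2, h2] at h1
      have ho : orderOf (w ^ n) = s := by
        rw [Nat.Coprime.orderOf_pow (hw ▸ hcop.symm), hw]
      have h3 : (a.1 : ℕ) = b.1 :=
        pow_injOn_Iio_orderOf (by rw [Set.mem_Iio, ho]; exact a.1.2)
          (by rw [Set.mem_Iio, ho]; exact b.1.2) h1
      refine Prod.ext (Fin.ext h3) (Subtype.ext (Subtype.ext ?_))
      rw [h3] at hab'
      exact mul_right_cancel hab'
    have := Nat.card_le_card_of_injective Φ hinj
    rwa [Nat.card_prod, Nat.card_fin] at this
  have hsplit : Nat.card X + Nat.card X' = Nat.card C := by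
    rw [← Nat.card_sum]; exact Nat.card_congr (Equiv.sumCompl _)
  have hX : Nat.card C * (s - 1) ≤ s * Nat.card X := by
    rw [Nat.mul_sub, mul_one, ← hsplit, add_mul]
    have : Nat.card X' * s ≤ Nat.card X + Nat.card X' := by rw [hsplit, mul_comm]; exact hX'
    rw [mul_comm s]
    omega
  -- order `s` elements of `C` generate `Y`
  have huniq : ∀ g : C, s ∣ orderOf g →
      zpowers ((g : G) ^ (orderOf (g : G) / s)) = Y := by
    intro g hg
    set v := (g : G) ^ (orderOf (g : G) / s) with hvdef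
    have hv : orderOf v = s :=
      orderOf_pow_orderOf_div (orderOf_pos _).ne' (by rwa [Subgroup.orderOf_coe])
    have hm : v ∈ Y := mem_zpowers_of_commute hs hcyc hw hv ((hwC g).symm.pow_right _)
    exact eq_of_le_of_card_ge (zpowers_le.mpr hm) (by rw [hYcard, Nat.card_zpowers, hv])
  let Ψ : (G ⧸ N) × X → {g : G // s ∣ orderOf g} := fun x =>
    ⟨x.1.out * (x.2.1 : G) * x.1.out⁻¹, by rw [orderOf_conj, Subgroup.orderOf_coe]; exact x.2.2⟩
  have hinj : Function.Injective Ψ := by
    intro a b hab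
    have hab' : a.1.out * (a.2.1 : G) * a.1.out⁻¹ = b.1.out * (b.2.1 : G) * b.1.out⁻¹ :=
      congrArg Subtype.val hab
    set x := b.1.out⁻¹ * a.1.out with hx
    have hconj : MulAut.conj x (a.2.1 : G) = b.2.1 := by
      calc x * (a.2.1 : G) * x⁻¹
          = b.1.out⁻¹ * (a.1.out * (a.2.1 : G) * a.1.out⁻¹) * b.1.out := by rw [hx]; group
        _ = b.2.1 := by rw [hab']; group
    have hord : orderOf (b.2.1 : G) = orderOf (a.2.1 : G) := by
      rw [← hconj]; exact orderOf_conj x _
    have hxN : x ∈ N := by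
      have hY' : Y.map (MulAut.conj x).toMonoidHom = Y := by
        conv_lhs => rw [← huniq a.2.1 a.2.2, MonoidHom.map_zpowers]
        rw [map_pow, MulEquiv.coe_toMonoidHom, hconj, ← hord, huniq b.2.1 b.2.2]
      refine mem_normalizer_iff.mpr fun n => ⟨fun hn => ?_, fun hn => ?_⟩
      · rw [← hY']; exact ⟨n, hn, rfl⟩
      · rw [← hY'] at hn
        obtain ⟨m, hm, hmn⟩ := hn
        rwa [← (MulAut.conj x).injective (hmn : MulAut.conj x m = MulAut.conj x n)]
    have hq : a.1 = b.1 := by
      rw [← a.1.out_eq', ← b.1.out_eq']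
      exact (QuotientGroup.eq.mpr hxN).symm
    refine Prod.ext hq (Subtype.ext (Subtype.ext ?_))
    rw [hq] at hab'
    simpa using hab'
  have hΨ := Nat.card_le_card_of_injective Ψ hinj
  rw [Nat.card_prod] at hΨ
  have hG : Nat.card G = Nat.card (G ⧸ N) * (e * Nat.card C) := by
    rw [← hNC]; exact card_eq_card_quotient_mul_card_subgroup N
  calc Nat.card G * (s - 1) = Nat.card (G ⧸ N) * e * (Nat.card C * (s - 1)) := by rw [hG]; ring
    _ ≤ Nat.card (G ⧸ N) * e * (s * Nat.card X) := Nat.mul_le_mul_left _ hX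
    _ = e * s * (Nat.card (G ⧸ N) * Nat.card X) := by ring
    _ ≤ _ := Nat.mul_le_mul_left _ hΨ

end H17.CSy
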