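import Cfsg.Agent.H76.CSy.Defs
import Cfsg.Agent.H17.CSy.CoreTools

/-!
# Group theory of the core configuration
-/

set_option autoImplicit false

namespace H17.CSy

open Subgroup H76.CSy

universe u

variable {G : Type u} [Group G] [Finite G] (D : SDCore G)
include D

theorem p_odd : D.p ≠ 2 := fun e => by
  have := D.O_odd.of_dvd_nat D.hpO
  rw [e] at this
  exact absurd this (by decide)

theorem p_three_le : 3 ≤ D.p := by
  have := D.hp.two_le
  have := p_odd D
  omega

theorem O_three : 3 ≤ Nat.card D.O := (p_three_le D).trans (Nat.le_of_dvd Nat.card_pos D.hpO)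

theorem y_ne : D.y ≠ 1 := fun h => by
  have := D.y_ord
  rw [h, orderOf_one] at this
  exact D.hp.ne_one this.symm

theorem cent_y : centralizer ({D.y} : Set G) = D.K := D.cent_o _ D.y_O (y_ne D)

theorem cent_y_card : Nat.card (centralizer ({D.y} : Set G)) = 24 * Nat.card D.O := by
  rw [cent_y, D.card_K]

theorem comm_t_y : Commute D.t D.y := (mem_centralizer_one.mp (D.O_le D.y_O)).symm

theorem t_mem_K : D.t ∈ D.K := by
  rw [← cent_y]; exact mem_centralizer_one.mpr (comm_t_y D)

theorem c2_mem_K : D.c ^ 2 ∈ D.K := by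
  rw [← cent_y, mem_centralizer_one]
  have h := D.inv_O _ D.y_O
  have h' : D.c * D.y⁻¹ * D.c⁻¹ = D.y := by
    calc D.c * D.y⁻¹ * D.c⁻¹ = (D.c * D.y * D.c⁻¹)⁻¹ := by group
      _ = D.y := by rw [h, inv_inv]
  show D.c ^ 2 * D.y = D.y * D.c ^ 2
  calc D.c ^ 2 * D.y = D.c * (D.c * D.y * D.c⁻¹) * D.c⁻¹ * D.c ^ 2 := by
        rw [pow_two]; group
    _ = D.c * D.y⁻¹ * D.c⁻¹ * D.c ^ 2 := by rw [h]
    _ = D.y * D.c ^ 2 := by rw [h']

theorem c2_t : (D.c ^ 2) ^ 2 = D.t := by rw [← pow_mul]; exact D.c_pow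

theorem exists_lt_pow {w : G} (h : w ∈ zpowers D.c) : ∃ i, i < orderOf D.c ∧ D.c ^ i = w := by
  classical
  rw [(isOfFinOrder_of_finite D.c).mem_zpowers_iff_mem_range_orderOf, Finset.mem_image] at h
  obtain ⟨i, hi, he⟩ := h
  exact ⟨i, Finset.mem_range.mp hi, he⟩

theorem three_K : (Nat.card G).factorization 3 = (Nat.card D.K).factorization 3 := by
  rw [D.three_part, D.card_K, Nat.factorization_mul (by norm_num) Nat.card_pos.ne',
    show (24 : ℕ) = 2 ^ 3 * 3 by norm_num, Nat.factorization_mul (by norm_num) (by norm_num),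
    Nat.prime_two.factorization_pow, Nat.prime_three.factorization]
  simp

/-- An element with a power of order 8 has order 8. -/
theorem eight {g : G} (h : 8 ∣ orderOf g) : orderOf g = 8 := by
  obtain ⟨w, ⟨i, hi⟩, hw⟩ := exists_pow_orderOf_eq h
  refine Nat.dvd_antisymm ?_ h
  have key : ∀ x : G, (x * w * x⁻¹ = D.c ∨ x * w * x⁻¹ = D.c⁻¹) → orderOf g ∣ 8 := by
    intro x hx
    have hc : Commute (x * g * x⁻¹) (x * w * x⁻¹) :=
      (commute_conj_iff x g w).mpr (hi ▸ (Commute.refl g).pow_right i)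
    have hm : x * g * x⁻¹ ∈ centralizer ({D.c} : Set G) := by
      rw [mem_centralizer_one]
      rcases hx with e | e
      · rw [e] at hc; exact hc
      · rw [e] at hc; simpa using hc.inv_right
    have := orderOf_dvd_natCard (⟨_, hm⟩ : centralizer ({D.c} : Set G))
    rwa [Subgroup.orderOf_mk, D.card_cc, orderOf_conj] at this
  rcases D.eight_conj w hw with e | e <;> obtain ⟨x, hx⟩ := isConj_iff.mp e
  · exact key x (Or.inl hx)
  · exact key x (Or.inr hx)

theorem K_ord {g : G} (hg : g ∈ D.K) : orderOf g ∣ 24 * Nat.card D.O := by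
  have := orderOf_dvd_natCard (⟨g, hg⟩ : D.K)
  rwa [Subgroup.orderOf_mk, D.card_K] at this

theorem K_ord_ne {g : G} (hg : g ∈ D.K) : orderOf g ≠ 8 := by
  intro h
  have hm : D.y ∈ centralizer ({g} : Set G) := by
    rw [← cent_y, mem_centralizer_one] at hg
    exact mem_centralizer_one.mpr hg.symm
  have hgc : Nat.card (centralizer ({g} : Set G)) = 8 := by
    have key : ∀ x : G, (x * g * x⁻¹ = D.c ∨ x * g * x⁻¹ = D.c⁻¹) →
        Nat.card (centralizer ({g} : Set G)) = 8 := by
      intro x hx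
      rw [← D.card_cc]
      refine Nat.card_congr ((MulAut.conj x).toEquiv.subtypeEquiv fun a => ?_)
      show a ∈ centralizer ({g} : Set G) ↔ x * a * x⁻¹ ∈ centralizer ({D.c} : Set G)
      rw [mem_centralizer_one, mem_centralizer_one, ← commute_conj_iff x a g]
      rcases hx with e | e <;> rw [e]
      exact Commute.inv_right_iff
    rcases D.eight_conj g h with e | e <;> obtain ⟨x, hx⟩ := isConj_iff.mp e
    · exact key x (Or.inl hx)
    · exact key x (Or.inr hx)
  have h8 := orderOf_dvd_natCard (⟨D.y, hm⟩ : centralizer ({g} : Set G))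
  rw [Subgroup.orderOf_mk, D.y_ord, hgc] at h8
  have := p_odd D
  have := (Nat.prime_dvd_prime_iff_eq D.hp Nat.prime_two).mp
    (D.hp.dvd_of_dvd_pow (m := 2) (n := 3) (by simpa using h8))
  omega

/-- An element with order divisible by a prime in `|O|` is conjugate into `K`. -/
theorem conj_K_of_dvd (hcyc : OddCyclic G) {g : G} {q : ℕ} (hq : q.Prime)
    (hqO : q ∣ Nat.card D.O) (hd : q ∣ orderOf g) : ∃ x : G, x * g * x⁻¹ ∈ D.K := by
  obtain ⟨w, ⟨i, hi⟩, hw⟩ := exists_pow_orderOf_eq hd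
  have hxO : ∃ x : G, x * w * x⁻¹ ∈ D.O := by
    by_cases h3 : q = 3
    · subst h3
      obtain ⟨x, hx⟩ := exists_conj_mem D.K hq (w := w) (k := 1) (three_K D) (by rw [hw, pow_one])
      haveI : Fact (Nat.Prime 3) := ⟨hq⟩
      obtain ⟨o, ho⟩ := exists_prime_orderOf_dvd_card' (G := D.O) 3 hqO
      have ho' : orderOf (o : G) = 3 := by rw [Subgroup.orderOf_coe, ho]
      refine ⟨x, ?_⟩
      have hm : x * w * x⁻¹ ∈ zpowers (o : G) :=
        mem_zpowers_of_commute hq (hcyc 3 hq (by norm_num)) ho' (by rw [orderOf_conj, hw])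
          (by
            rw [← D.cent_o o o.2 (fun e => by rw [e, orderOf_one] at ho'; omega),
              mem_centralizer_one] at hx
            exact hx.symm)
      exact (zpowers_le.mpr o.2) hm
    · exact exists_conj_mem D.O hq (D.part_eq q hq h3 hqO) (k := 1) (by rw [hw, pow_one])
  obtain ⟨x, hx⟩ := hxO
  refine ⟨x, ?_⟩
  have hne : x * w * x⁻¹ ≠ 1 := by
    intro e
    have := orderOf_conj x w
    rw [e, orderOf_one, hw] at this
    exact hq.ne_one this.symm
  rw [← D.cent_o _ hx hne, mem_centralizer_one, commute_conj_iff, hi]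
  exact (Commute.refl g).pow_right i

theorem odd_mem_K {g : G} (hg : Commute g D.t) (ho : Odd (orderOf g)) : g ∈ D.K :=
  mem_index_two_of_odd (D.K_le) (by rw [D.card_ct, D.card_K]; ring) (mem_centralizer_one.mpr hg) ho

/-- The elements to be shown to have trivial exceptional value. -/
def IsU (g : G) : Prop :=
  g ≠ 1 ∧ orderOf g ≠ 8 ∧ ∀ s : ℕ, s.Prime → s ∣ orderOf g → s ∣ 6 * Nat.card D.O

theorem isU_conj_K (hcyc : OddCyclic G) {g : G} (h : IsU D g) : ∃ x : G, x * g * x⁻¹ ∈ D.K := by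
  obtain ⟨h1, h8, hs⟩ := h
  have hn8 : ¬ 8 ∣ orderOf g := fun h => h8 (eight D h)
  by_cases h4 : 4 ∣ orderOf g
  · obtain ⟨m, hm⟩ := h4
    have ho : orderOf (g ^ m) = 4 := by
      rw [orderOf_pow_of_dvd (by rintro rfl; have := orderOf_pos g; omega) (hm ▸ dvd_mul_left m 4),
        hm, Nat.mul_div_cancel _ (by rcases Nat.eq_zero_or_pos m with rfl | h
                                     · have := orderOf_pos g; omega
                                     · exact h)]
    obtain ⟨x, hx⟩ := isConj_iff.mp (D.four_conj _ ho)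
    refine ⟨x, ?_⟩
    set g' := x * g * x⁻¹ with hg'
    have hpm : g' ^ m = D.c ^ 2 := by rw [hg', conj_pow, hx]
    have hm2 : ¬ 2 ∣ m := fun ⟨k, hk⟩ => hn8 ⟨k, by omega⟩
    refine mem_of_pow_mem_coprime (D.K) (a := m) (b := 4) ?_ (hpm ▸ c2_mem_K D) ?_
    · rw [show 4 = 2 ^ 2 by norm_num]
      exact Nat.Coprime.pow_right 2 (Nat.coprime_two_right.mpr (Nat.odd_iff.mpr (by omega)))
    · refine odd_mem_K D ?_ ?_
      · rw [← c2_t D, ← hpm, ← pow_mul]
        exact ((Commute.refl g').pow_left 4).pow_right _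
      · rw [hg', conj_pow, orderOf_conj, orderOf_pow_of_dvd (by norm_num) (hm ▸ dvd_mul_right 4 m),
          hm, Nat.mul_div_cancel_left _ (by norm_num)]
        exact Nat.odd_iff.mpr (by omega)
  by_cases h2 : 2 ∣ orderOf g
  · obtain ⟨m, hm⟩ := h2
    have hm2 : ¬ 2 ∣ m := fun ⟨k, hk⟩ => h4 ⟨k, by omega⟩
    have ho : orderOf (g ^ m) = 2 := by
      rw [orderOf_pow_of_dvd (by omega) (hm ▸ dvd_mul_left m 2),
        hm, Nat.mul_div_cancel _ (by omega)]
    obtain ⟨x, hx⟩ := isConj_iff.mp (D.one _ ho).symm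
    refine ⟨x, ?_⟩
    set g' := x * g * x⁻¹ with hg'
    have hpm : g' ^ m = D.t := by rw [hg', conj_pow, hx]
    refine mem_of_pow_mem_coprime (D.K) (a := m) (b := 2) ?_ (hpm ▸ t_mem_K D) ?_
    · exact Nat.coprime_two_right.mpr (Nat.odd_iff.mpr (by omega))
    · refine odd_mem_K D ?_ ?_
      · rw [← hpm]
        exact ((Commute.refl g').pow_left 2).pow_right _
      · rw [hg', conj_pow, orderOf_conj, orderOf_pow_of_dvd (by norm_num) (hm ▸ dvd_mul_right 2 m),
          hm, Nat.mul_div_cancel_left _ (by norm_num)]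
        exact Nat.odd_iff.mpr (by omega)
  by_cases hO : ∃ q : ℕ, q.Prime ∧ q ∣ Nat.card D.O ∧ q ∣ orderOf g
  · obtain ⟨q, hq, hqO, hd⟩ := hO
    exact conj_K_of_dvd D hcyc hq hqO hd
  push Not at hO
  -- a `3`-element
  have h3 : ∀ s : ℕ, s.Prime → s ∣ orderOf g → s = 3 := by
    intro s hp hd
    rcases hp.dvd_mul.mp (hs s hp hd) with h6 | hsO
    · have := Nat.le_of_dvd (by norm_num) h6
      have := hp.two_le
      interval_cases s <;> norm_num at * <;> omega
    · exact absurd hd (hO s hp hsO)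
  have hpow := Nat.eq_prime_pow_of_unique_prime_dvd (orderOf_pos g).ne' (fun {d} => h3 d)
  exact exists_conj_mem D.K Nat.prime_three (three_K D) hpow

theorem K_isU {g : G} (hg : g ∈ D.K) (h1 : g ≠ 1) : IsU D g := by
  refine ⟨h1, K_ord_ne D hg, fun s hs hd => ?_⟩
  rcases hs.dvd_mul.mp (hd.trans (K_ord D hg)) with h | h
  · rw [show (24 : ℕ) = 4 * 6 by norm_num] at h
    rcases hs.dvd_mul.mp h with h | h
    · refine dvd_mul_of_dvd_left ?_ _
      exact (hs.dvd_of_dvd_pow (n := 2) h : s ∣ 2).trans (by norm_num)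
    · exact dvd_mul_of_dvd_left h _
  · exact dvd_mul_of_dvd_right h _

theorem O_le_norm {g : G} (hg : g ∈ centralizer ({D.t} : Set G)) {o : G} (ho : o ∈ D.O) :
    g * o * g⁻¹ ∈ D.O := (mem_normalizer_iff.mp (D.O_norm hg) o).mp ho

/-- A power of an element of `H ≤ C(t)` by the index of `O` lies in `O`. -/
theorem pow_relIndex_mem {H : Subgroup G} (hO : D.O ≤ H) (hH : H ≤ centralizer ({D.t} : Set G))
    {g : G} (hg : g ∈ H) {r : ℕ} (hr : Nat.card H = r * Nat.card D.O) : g ^ r ∈ D.O := by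
  haveI : (D.O.subgroupOf H).Normal := normal_subgroupOf_of_le_normalizer (hH.trans D.O_norm)
  have hi : (D.O.subgroupOf H).index = r := by
    have h1 := (D.O.subgroupOf H).card_mul_index
    rw [Nat.card_congr (subgroupOfEquivOfLe hO).toEquiv, hr, mul_comm r] at h1
    exact Nat.eq_of_mul_eq_mul_left Nat.card_pos h1
  have := (D.O.subgroupOf H).pow_index_mem ⟨g, hg⟩
  rw [hi] at this
  simpa [mem_subgroupOf] using this

theorem S_card : Nat.card (D.S : Subgroup G) = 16 := by
  haveI : Fact (Nat.Prime 2) := ⟨Nat.prime_two⟩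
  rw [D.S.card_eq_multiplicity, D.two_part]
  norm_num

theorem S_conj_c {s : G} (hs : s ∈ (D.S : Subgroup G)) : s * D.c * s⁻¹ ∈ zpowers D.c := by
  have hle : zpowers D.c ≤ (D.S : Subgroup G) := zpowers_le.mpr D.c_mem
  have hi : ((zpowers D.c).subgroupOf (D.S : Subgroup G)).index = 2 := by
    have h1 := ((zpowers D.c).subgroupOf (D.S : Subgroup G)).card_mul_index
    rw [Nat.card_congr (subgroupOfEquivOfLe hle).toEquiv, Nat.card_zpowers, D.c_ord, S_card] at h1
    omega
  have := (normal_of_index_eq_two hi).conj_mem ⟨D.c, D.c_mem⟩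
    (mem_subgroupOf.mpr (mem_zpowers D.c)) ⟨s, hs⟩
  simpa [mem_subgroupOf] using this

theorem S_conj_pow {s : G} (hs : s ∈ (D.S : Subgroup G)) :
    ∃ i : ℕ, i < 8 ∧ ¬ 2 ∣ i ∧ s * D.c * s⁻¹ = D.c ^ i := by
  obtain ⟨i, hi, he⟩ := exists_lt_pow D (S_conj_c D hs)
  refine ⟨i, D.c_ord ▸ hi, fun h2 => ?_, he.symm⟩
  obtain ⟨k, rfl⟩ := h2
  have h8 := orderOf_conj s D.c
  rw [← he, D.c_ord] at h8
  have : (D.c ^ (2 * k)) ^ 4 = 1 := by
    rw [← pow_mul, show 2 * k * 4 = 8 * k by ring, pow_mul, ← D.c_ord, pow_orderOf_eq_one, one_pow]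
  have h4 := Nat.le_of_dvd (by norm_num) (orderOf_dvd_of_pow_eq_one this)
  omega

theorem S_le : (D.S : Subgroup G) ≤ centralizer ({D.t} : Set G) := by
  intro s hs
  obtain ⟨i, hi, hodd, he⟩ := S_conj_pow D hs
  have ht : s * D.t * s⁻¹ = D.t := by
    rw [← D.c_pow, ← conj_pow, he, ← pow_mul, show i * 4 = 8 * (i / 2) + 4 by omega, pow_add,
      pow_mul, ← D.c_ord, pow_orderOf_eq_one, one_pow, one_mul]
  rw [mem_centralizer_one]
  show s * D.t = D.t * s
  calc s * D.t = s * D.t * s⁻¹ * s := by group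
    _ = D.t * s := by rw [ht]

theorem c_not_mem : D.c ∉ D.K := fun h => K_ord_ne D h D.c_ord

theorem K_conj {x g : G} (hx : x ∈ centralizer ({D.t} : Set G)) (hg : g ∈ D.K) :
    x * g * x⁻¹ ∈ D.K := by
  have hi : (D.K.subgroupOf (centralizer ({D.t} : Set G))).index = 2 := by
    have h1 := (D.K.subgroupOf (centralizer ({D.t} : Set G))).card_mul_index
    rw [Nat.card_congr (subgroupOfEquivOfLe D.K_le).toEquiv, D.card_K, D.card_ct] at h1
    refine Nat.eq_of_mul_eq_mul_left (show 0 < 24 * Nat.card D.O from Nat.mul_pos (by norm_num) Nat.card_pos) ?_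
    rw [h1]; ring
  have := (normal_of_index_eq_two hi).conj_mem ⟨g, D.K_le hg⟩ (mem_subgroupOf.mpr hg) ⟨x, hx⟩
  simpa [mem_subgroupOf] using this

theorem invol_eq_t {s : G} (hs : s ∈ D.K) (h2 : orderOf s = 2) : s = D.t := by
  set Ct := centralizer ({D.t} : Set G) with hCt
  have hv : (Nat.card Ct).factorization 2 =
      (Nat.card ((D.S : Subgroup G).subgroupOf Ct)).factorization 2 := by
    rw [Nat.card_congr (subgroupOfEquivOfLe (S_le D)).toEquiv, S_card, D.card_ct,
      Nat.factorization_mul (by norm_num) Nat.card_pos.ne']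
    have h0 : (Nat.card D.O).factorization 2 = 0 :=
      Nat.factorization_eq_zero_of_not_dvd fun h => by have := Nat.odd_iff.mp D.O_odd; omega
    rw [show (48 : ℕ) = 2 ^ 4 * 3 by norm_num, Nat.factorization_mul (by norm_num) (by norm_num),
      show (16 : ℕ) = 2 ^ 4 by norm_num, Nat.prime_two.factorization_pow,
      Nat.prime_three.factorization]
    simp [h0]
  obtain ⟨⟨x, hx⟩, hxs⟩ := exists_conj_mem ((D.S : Subgroup G).subgroupOf Ct) Nat.prime_two hv
    (w := ⟨s, D.K_le hs⟩) (k := 1) (by rw [Subgroup.orderOf_mk, h2, pow_one])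
  have hS : x * s * x⁻¹ ∈ (D.S : Subgroup G) := by simpa [mem_subgroupOf] using hxs
  have hK : x * s * x⁻¹ ∈ D.K := K_conj D hx hs
  have hord : orderOf (x * s * x⁻¹) = 2 := by rw [orderOf_conj, h2]
  suffices x * s * x⁻¹ = D.t by
    have hxt : x * D.t * x⁻¹ = D.t := by
      rw [(mem_centralizer_one.mp hx).eq, mul_inv_cancel_right]
    exact mul_left_cancel (mul_right_cancel (this.trans hxt.symm))
  set s' := x * s * x⁻¹
  by_contra hne
  have hinv : s'⁻¹ = s' := inv_eq_of_mul_eq_one_right (by rw [← pow_two, ← hord, pow_orderOf_eq_one])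
  obtain ⟨i, hi, hodd, he⟩ := S_conj_pow D hS
  interval_cases i <;> first | omega | skip
  · -- `c` is centralised
    have hc : Commute s' D.c := by
      show s' * D.c = D.c * s'
      calc s' * D.c = s' * D.c * s'⁻¹ * s' := by group
        _ = D.c * s' := by rw [he, pow_one]
    have hsub : zpowers D.c = centralizer ({D.c} : Set G) :=
      eq_of_le_of_card_ge (zpowers_le.mpr (mem_centralizer_one.mpr (Commute.refl _)))
        (by rw [D.card_cc, Nat.card_zpowers, D.c_ord])
    obtain ⟨j, hj, hje⟩ := exists_lt_pow D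
      (show s' ∈ zpowers D.c by rw [hsub]; exact mem_centralizer_one.mpr hc)
    have h1 : D.c ^ (j * 2) = 1 := by rw [pow_mul, hje, ← hord, pow_orderOf_eq_one]
    have h8 := orderOf_dvd_of_pow_eq_one h1
    rw [D.c_ord] at h8 hj
    obtain rfl | rfl : j = 0 ∨ j = 4 := by omega
    · rw [pow_zero] at hje; rw [← hje, orderOf_one] at hord; omega
    · exact hne (hje.symm.trans D.c_pow)
  · -- semidihedral action
    set v := D.c * s' with hv'
    have hv2 : v ^ 2 = D.t := by
      rw [← D.c_pow, hv']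
      calc (D.c * s') ^ 2 = D.c * (s' * D.c * s'⁻¹) * (s' * s') := by rw [pow_two]; group
        _ = D.c ^ 4 := by
          rw [he, ← pow_two, ← hord, pow_orderOf_eq_one, mul_one, ← pow_succ']
    have hv4 : orderOf v = 4 := by
      refine orderOf_eq_prime_pow (p := 2) (n := 1) ?_ ?_
      · rw [pow_one, hv2]
        intro h; have := D.t_ord; rw [h, orderOf_one] at this; omega
      · rw [show 2 ^ (1 + 1) = 2 * 2 by norm_num, pow_mul, hv2, ← D.t_ord, pow_orderOf_eq_one]
    obtain ⟨z, hz⟩ := isConj_iff.mp (D.four_conj v hv4)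
    have hzt : z ∈ Ct := by
      rw [hCt, mem_centralizer_one]
      have : z * D.t * z⁻¹ = D.t := by
        conv_rhs => rw [← c2_t D, ← hz, conj_pow, hv2]
      show z * D.t = D.t * z
      calc z * D.t = z * D.t * z⁻¹ * z := by group
        _ = D.t * z := by rw [this]
    have hvK : v ∈ D.K := by
      have hm := K_conj D (inv_mem hzt) (c2_mem_K D)
      have e : z⁻¹ * D.c ^ 2 * z⁻¹⁻¹ = v := by rw [← hz]; group
      rwa [e] at hm
    exact c_not_mem D ((mul_mem_cancel_right hK).mp hvK)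
  · -- `c²` would have too large a centraliser
    have hs5 : Commute s' (D.c ^ 2) := by
      show s' * D.c ^ 2 = D.c ^ 2 * s'
      calc s' * D.c ^ 2 = (s' * D.c * s'⁻¹) ^ 2 * s' := by rw [conj_pow]; group
        _ = D.c ^ (8 + 2) * s' := by rw [he, ← pow_mul]
        _ = D.c ^ 2 * s' := by rw [pow_add, ← D.c_ord, pow_orderOf_eq_one, one_mul]
    have hsub : (D.S : Subgroup G) ≤ centralizer ({D.c ^ 2} : Set G) := by
      intro a ha
      set A := centralizer ({D.c ^ 2} : Set G) ⊓ (D.S : Subgroup G) with hA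
      have hcA : zpowers D.c ≤ A := hA ▸ zpowers_le.mpr
        (mem_inf.mpr ⟨mem_centralizer_one.mpr ((Commute.refl D.c).pow_right 2), D.c_mem⟩)
      have hsA : s' ∈ A := hA ▸ mem_inf.mpr ⟨mem_centralizer_one.mpr hs5, hS⟩
      have hAle : A ≤ (D.S : Subgroup G) := hA ▸ inf_le_right
      have h16 := card_dvd_of_le hAle
      have h8 := card_dvd_of_le hcA
      rw [S_card] at h16
      rw [Nat.card_zpowers, D.c_ord] at h8
      have hAS : A = (D.S : Subgroup G) := by
        refine eq_of_le_of_card_ge hAle ?_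
        rw [S_card]
        obtain ⟨k, hk⟩ := h8
        have hk2 := Nat.le_of_dvd (by norm_num) h16
        have hk1 : 0 < Nat.card A := Nat.card_pos
        rcases (show k = 1 ∨ k = 2 by omega) with rfl | rfl
        · exfalso
          have heq : zpowers D.c = A :=
            eq_of_le_of_card_ge hcA (by rw [Nat.card_zpowers, D.c_ord, hk, mul_one])
          obtain ⟨j, hj⟩ := (heq ▸ hsA : s' ∈ zpowers D.c)
          dsimp only at hj
          apply c_not_mem D
          have : s' * D.c * s'⁻¹ = D.c := by rw [← hj]; group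
          rw [this] at he
          have := pow_injOn_Iio_orderOf (show 1 ∈ Set.Iio (orderOf D.c) by simp [D.c_ord])
            (show 5 ∈ Set.Iio (orderOf D.c) by simp [D.c_ord]) (by simpa using he)
          omega
        · omega
      rw [← hAS, hA] at ha
      exact (mem_inf.mp ha).1
    have := card_dvd_of_le hsub
    rw [S_card, D.card_cw] at this
    obtain ⟨r, hr⟩ := this
    have := Nat.odd_iff.mp D.O_odd
    omega
  · exact D.eight_two (isConj_iff.mpr ⟨s', by
      rw [he, eq_inv_iff_mul_eq_one, ← pow_succ, show (7 : ℕ) + 1 = orderOf D.c by rw [D.c_ord],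
        pow_orderOf_eq_one]⟩)

/-- The unique involution centralising a nontrivial element of odd order of `K`. -/
theorem invol_cent {g s : G} (hg : g ∈ D.K) (h1 : g ≠ 1) (ho : Odd (orderOf g))
    (h2 : orderOf s = 2) (hc : Commute s g) : s = D.t := by
  by_cases hO : g ∈ D.O
  · refine invol_eq_t D ?_ h2
    rw [← D.cent_o g hO h1, mem_centralizer_one]
    exact hc
  set C := centralizer ({g} : Set G) with hC
  have hCcard : Nat.card C = 6 * Nat.card D.O := D.cent_h g hg ho hO
  have htg : Commute D.t g := (mem_centralizer_one.mp (D.K_le hg)).symm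
  have htC : D.t ∈ C := mem_centralizer_one.mpr htg
  have hCle : C ≤ centralizer ({D.t} : Set G) := by
    have hI : (C ⊓ centralizer ({D.t} : Set G)) = C := by
      refine eq_of_le_of_card_ge inf_le_left ?_
      rw [hCcard]
      refine Nat.le_of_dvd Nat.card_pos ?_
      set I := C ⊓ centralizer ({D.t} : Set G)
      have hOI : D.O ≤ I := fun o ho' => by
        refine mem_inf.mpr ⟨?_, D.O_le ho'⟩
        by_cases h : o = 1
        · rw [h]; exact one_mem _
        have hgK := hg
        rw [← D.cent_o o ho' h, mem_centralizer_one] at hgK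
        exact mem_centralizer_one.mpr hgK.symm
      have dI := card_dvd_of_le (inf_le_left : I ≤ C)
      rw [hCcard] at dI
      obtain ⟨j, hj⟩ := card_dvd_of_le hOI
      rw [hj, mul_comm 6] at dI
      have hj6 : j ∣ 6 := Nat.dvd_of_mul_dvd_mul_left Nat.card_pos dI
      have d2 : 2 ∣ Nat.card I := by
        have := Subgroup.orderOf_dvd_natCard I
          (show D.t ∈ I from mem_inf.mpr ⟨htC, mem_centralizer_one.mpr (Commute.refl D.t)⟩)
        rwa [D.t_ord] at this
      have j2 : 2 ∣ j := by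
        rw [hj] at d2
        exact (Nat.coprime_two_left.mpr D.O_odd).dvd_of_dvd_mul_left d2
      have hjg : g ^ j ∈ D.O := pow_relIndex_mem D hOI inf_le_right
        (mem_inf.mpr ⟨mem_centralizer_one.mpr (Commute.refl g), D.K_le hg⟩) (by rw [hj, mul_comm])
      have hj3 : j = 6 := by
        rcases (show j = 2 ∨ j = 6 by
          have := Nat.le_of_dvd (by norm_num) hj6; interval_cases j <;> omega) with rfl | h
        · exact absurd (mem_of_pow_mem_coprime D.O (Nat.coprime_two_left.mpr ho) hjg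
            (by rw [pow_orderOf_eq_one]; exact one_mem _)) hO
        · exact h
      rw [hj, hj3, mul_comm]
    exact inf_eq_left.mp hI
  let T : Subgroup C := zpowers ⟨D.t, htC⟩
  have hT : Nat.card T = 2 := by rw [Nat.card_zpowers, Subgroup.orderOf_mk, D.t_ord]
  have hv : (Nat.card C).factorization 2 = (Nat.card T).factorization 2 := by
    rw [hCcard, hT, Nat.factorization_mul (by norm_num) Nat.card_pos.ne', Nat.prime_two.factorization]
    have h0 : (Nat.card D.O).factorization 2 = 0 :=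
      Nat.factorization_eq_zero_of_not_dvd fun h => by have := Nat.odd_iff.mp D.O_odd; omega
    rw [show (6 : ℕ) = 2 * 3 by norm_num, Nat.factorization_mul (by norm_num) (by norm_num),
      Nat.prime_two.factorization, Nat.prime_three.factorization]
    simp [h0]
  have hsC : s ∈ C := mem_centralizer_one.mpr hc
  obtain ⟨x, hx⟩ := exists_conj_mem T Nat.prime_two hv (w := ⟨s, hsC⟩) (k := 1)
    (by rw [Subgroup.orderOf_mk, h2, pow_one])
  obtain ⟨i, hi⟩ := hx
  have hxs : (x : G) * s * (x : G)⁻¹ = D.t ^ i := by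
    have := congrArg Subtype.val hi
    simpa using this.symm
  have hxt : (x : G) * D.t * (x : G)⁻¹ = D.t := by
    rw [(mem_centralizer_one.mp (hCle x.2)).eq, mul_inv_cancel_right]
  have ht2 : D.t ^ (2 : ℤ) = 1 := by
    rw [show (2 : ℤ) = ((2 : ℕ) : ℤ) by rfl, zpow_natCast, ← D.t_ord, pow_orderOf_eq_one]
  rcases Int.even_or_odd' i with ⟨k, rfl | rfl⟩
  · rw [zpow_mul, ht2, one_zpow, conj_eq_one_iff] at hxs
    rw [hxs, orderOf_one] at h2
    omega
  · rw [zpow_add, zpow_mul, ht2, one_zpow, one_mul, zpow_one] at hxs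
    conv_rhs at hxs => rw [← hxt]
    simpa using hxs

theorem isU_card_ge :
    (centralizer ({D.t} : Set G)).index * (24 * Nat.card D.O - 1) ≤ Nat.card {g : G // IsU D g} := by
  classical
  let X := {g : G // g ∈ D.K ∧ g ≠ 1}
  have hX : Nat.card X = 24 * Nat.card D.O - 1 := by
    haveI := Fintype.ofFinite G
    rw [← D.card_K, Nat.card_eq_fintype_card, Nat.card_eq_fintype_card, Fintype.card_subtype,
      Fintype.card_subtype]
    have : (Finset.univ.filter fun g : G => g ∈ D.K ∧ g ≠ 1) =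
        (Finset.univ.filter fun g : G => g ∈ D.K).erase 1 := by
      ext g; simp [and_comm]
    rw [this, Finset.card_erase_of_mem (by simp [one_mem])]
  have key : ∀ (x : G) (a b : X), x * (a : G) * x⁻¹ = b → x ∈ centralizer ({D.t} : Set G) := by
    intro x a b hab
    suffices x * D.t * x⁻¹ = D.t by
      rw [mem_centralizer_one]
      show x * D.t = D.t * x
      calc x * D.t = x * D.t * x⁻¹ * x := by group
        _ = D.t * x := by rw [this]
    have hord : orderOf (b : G) = orderOf (a : G) := by rw [← hab, orderOf_conj]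
    rcases Nat.even_or_odd (orderOf (a : G)) with he | ho
    · obtain ⟨w, ⟨i, hi⟩, hw⟩ := exists_pow_orderOf_eq he.two_dvd
      have hwt : w = D.t := invol_eq_t D (hi ▸ pow_mem a.2.1 i) hw
      refine invol_eq_t D ?_ (by rw [orderOf_conj, D.t_ord])
      rw [← hwt, hi, ← conj_pow, hab]
      exact pow_mem b.2.1 i
    · refine invol_cent D b.2.1 b.2.2 (hord ▸ ho) (by rw [orderOf_conj, D.t_ord]) ?_
      rw [← hab, commute_conj_iff]
      exact (mem_centralizer_one.mp (D.K_le a.2.1)).symm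
  let Φ : (G ⧸ centralizer ({D.t} : Set G)) × X → {g : G // IsU D g} := fun z =>
    ⟨z.1.out * (z.2 : G) * z.1.out⁻¹, by
      obtain ⟨h1, h8, hs⟩ := K_isU D z.2.2.1 z.2.2.2
      refine ⟨fun e => h1 (conj_eq_one_iff.mp e), ?_, ?_⟩ <;> rwa [orderOf_conj]⟩
  have hinj : Function.Injective Φ := by
    intro a b hab
    have hab' : a.1.out * (a.2 : G) * a.1.out⁻¹ = b.1.out * (b.2 : G) * b.1.out⁻¹ :=
      congrArg Subtype.val hab
    have hx : (b.1.out⁻¹ * a.1.out) * (a.2 : G) * (b.1.out⁻¹ * a.1.out)⁻¹ = b.2 := by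
      calc _ = b.1.out⁻¹ * (a.1.out * (a.2 : G) * a.1.out⁻¹) * b.1.out := by group
        _ = _ := by rw [hab']; group
    have hq : a.1 = b.1 := by
      rw [← a.1.out_eq', ← b.1.out_eq']
      exact (QuotientGroup.eq.mpr (key _ a.2 b.2 hx)).symm
    refine Prod.ext hq (Subtype.ext ?_)
    rw [hq] at hab'
    simpa using hab'
  have := Nat.card_le_card_of_injective Φ hinj
  rwa [Nat.card_prod, hX, ← index_eq_card] at this

theorem mem_O_of_coprime {g : G} (hg : g ∈ D.K) (h : (orderOf g).Coprime 24) : g ∈ D.O :=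
  mem_of_pow_mem_coprime D.O h.symm (pow_relIndex_mem D D.O_le_K D.K_le hg D.card_K)
    (by rw [pow_orderOf_eq_one]; exact one_mem _)

theorem c2_comm_O {o : G} (ho : o ∈ D.O) : Commute (D.c ^ 2) o := by
  have h := D.inv_O o ho
  show D.c ^ 2 * o = o * D.c ^ 2
  calc D.c ^ 2 * o = D.c * (D.c * o * D.c⁻¹) * D.c⁻¹ * D.c ^ 2 := by rw [pow_two]; group
    _ = D.c * o⁻¹ * D.c⁻¹ * D.c ^ 2 := by rw [h]
    _ = (D.c * o * D.c⁻¹)⁻¹ * D.c ^ 2 := by group
    _ = o * D.c ^ 2 := by rw [h, inv_inv]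

theorem O_le_cw : D.O ≤ centralizer ({D.c ^ 2} : Set G) := fun _ ho =>
  mem_centralizer_one.mpr (c2_comm_O D ho).symm

theorem cw_le : centralizer ({D.c ^ 2} : Set G) ≤ centralizer ({D.t} : Set G) := fun g hg => by
  rw [mem_centralizer_one] at hg ⊢
  rw [← c2_t D]
  exact hg.pow_right 2

/-- Elements of `K` up to conjugacy, those of order divisible by three apart. -/
theorem isU_three {g : G} (hcyc : OddCyclic G) (hU : IsU D g) (h3 : ¬ 3 ∣ orderOf g) :
    ∃ x : G, x * g * x⁻¹ ∈ D.O ∨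
      ∃ v w : G, (v = D.t ∨ v = D.c ^ 2) ∧ w ∈ D.O ∧ x * g * x⁻¹ = v * w := by
  obtain ⟨x, hx⟩ := isU_conj_K D hcyc hU
  set g' := x * g * x⁻¹ with hg'
  have ho : orderOf g' = orderOf g := orderOf_conj x g
  have hn8 : ¬ 8 ∣ orderOf g' := fun h => hU.2.1 (eight D (ho ▸ h))
  have hodd : ¬ 2 ∣ orderOf (g' ^ 4) := by
    intro h2
    rw [orderOf_pow] at h2
    have hg4 : orderOf g' / (orderOf g').gcd 4 * (orderOf g').gcd 4 = orderOf g' :=
      Nat.div_mul_cancel (Nat.gcd_dvd_left _ _)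
    have hd4 : (orderOf g').gcd 4 ∣ 4 := Nat.gcd_dvd_right _ _
    obtain ⟨r, hr⟩ := h2
    by_cases h4 : 4 ∣ orderOf g'
    · rw [Nat.gcd_eq_right h4] at hr hg4
      exact hn8 ⟨r, by omega⟩
    · have h2' : 2 ∣ orderOf g' := by
        rw [← hg4, hr]; exact dvd_mul_of_dvd_left (dvd_mul_right 2 r) _
      have : 2 ∣ (orderOf g').gcd 4 := Nat.dvd_gcd h2' (by norm_num)
      obtain ⟨r', hr'⟩ := this
      exact h4 ⟨r * r', by rw [← hg4, hr, hr']; ring⟩
  have hcop : (4 : ℕ).Coprime (orderOf (g' ^ 4)) := by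
    rw [show (4 : ℕ) = 2 ^ 2 by norm_num]
    exact ((Nat.prime_two.coprime_iff_not_dvd).mpr hodd).pow_left 2
  obtain ⟨i, hi⟩ := exists_pow_eq_self_of_coprime hcop
  set w := (g' ^ 4) ^ i with hw
  set v := g' * w⁻¹ with hv
  have hcw : Commute g' w := ((Commute.refl g').pow_right 4).pow_right i
  have hw4 : w ^ 4 = g' ^ 4 := by
    rw [hw, ← pow_mul, mul_comm i 4, pow_mul]; exact hi
  have hv4 : v ^ 4 = 1 := by
    rw [hv, hcw.inv_right.mul_pow, inv_pow, hw4, mul_inv_cancel]
  have hgv : g' = v * w := by rw [hv, inv_mul_cancel_right]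
  have hwd : orderOf w ∣ orderOf (g' ^ 4) := orderOf_pow_dvd i
  have hwO : w ∈ D.O := by
    refine mem_O_of_coprime D (pow_mem (pow_mem hx 4) i) ?_
    rw [show (24 : ℕ) = 2 ^ 3 * 3 by norm_num]
    refine Nat.Coprime.mul_right (Nat.Coprime.pow_right 3 ?_) ?_
    · exact Nat.Coprime.coprime_dvd_left hwd
        ((Nat.prime_two.coprime_iff_not_dvd).mpr hodd).symm
    · exact ((Nat.prime_three.coprime_iff_not_dvd).mpr
        (fun h => h3 (ho ▸ (h.trans hwd).trans (orderOf_pow_dvd 4)))).symm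
  obtain ⟨k, hk, hvk⟩ := (Nat.dvd_prime_pow (m := 2) Nat.prime_two).mp
    (orderOf_dvd_of_pow_eq_one (show v ^ 2 ^ 2 = 1 by norm_num; exact hv4))
  have hvK : v ∈ D.K := mul_mem hx (inv_mem (D.O_le_K hwO))
  interval_cases k
  · refine ⟨x, Or.inl ?_⟩
    rw [pow_zero, orderOf_eq_one_iff] at hvk
    rw [← hg', hgv, hvk, one_mul]
    exact hwO
  · exact ⟨x, Or.inr ⟨v, w, Or.inl (invol_eq_t D hvK (by simpa using hvk)), hwO, hgv⟩⟩
  · obtain ⟨z, hz⟩ := isConj_iff.mp (D.four_conj v (by simpa using hvk))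
    refine ⟨z * x, Or.inr ⟨_, z * w * z⁻¹, Or.inr rfl, ?_, ?_⟩⟩
    · have hm : z * w * z⁻¹ ∈ centralizer ({D.c ^ 2} : Set G) := by
        rw [mem_centralizer_one, ← hz, commute_conj_iff, hv]
        exact hcw.symm.mul_right (Commute.refl w).inv_right
      refine mem_of_pow_mem_coprime D.O ?_ (pow_relIndex_mem D (O_le_cw D) (cw_le D) hm D.card_cw)
        (show (z * w * z⁻¹) ^ orderOf (z * w * z⁻¹) ∈ D.O by
          rw [pow_orderOf_eq_one]; exact one_mem _)
      rw [orderOf_conj, show (8 : ℕ) = 2 ^ 3 by norm_num]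
      exact (Nat.Coprime.coprime_dvd_right hwd
        ((Nat.prime_two.coprime_iff_not_dvd).mpr hodd)).pow_left 3
    · rw [← hz, show z * x * g * (z * x)⁻¹ = z * g' * z⁻¹ by rw [hg']; group, hgv]
      group

end H17.CSy
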