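import Cfsg.Agent.H17.CSy.CoreGroup
import Cfsg.Agent.H17.CSy.CoreArith
import Cfsg.Agent.H17.DefectZeroInvol
import Cfsg.Agent.H19.GaloisAvg

/-!
# The core configuration does not occur

Semidihedral Sylow `2`-subgroups with `C(t) = (O × SL(2,3)).2`, `O ≠ 1`.
-/

set_option autoImplicit false

namespace H17.CSy

open Subgroup H76.CSy Cfsg Polynomial
open scoped ComplexConjugate

universe u

/-- Nonzero values of a family of Galois-compatible cyclotomic integers on a stable set. -/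
theorem card_ne_zero_le {G : Type u} [Group G] [Finite G] (α : G → ℂ) (S : Finset G) {ζ : ℂ}
    (hζ : IsPrimitiveRoot ζ (Nat.card G))
    (hS : ∀ j : ℕ, (Nat.card G).Coprime j → ∀ g ∈ S, g ^ j ∈ S)
    (hP : ∀ g ∈ S, ∃ P : ℤ[X], ∀ j : ℕ, (Nat.card G).Coprime j → α (g ^ j) = aeval (ζ ^ j) P) :
    ((S.filter fun g => α g ≠ 0).card : ℝ) ≤ ∑ g ∈ S, ‖α g‖ ^ 2 := by
  classical
  have hn : 0 < Nat.card G := Nat.card_pos
  set S' := S.filter fun g => α g ≠ 0 with hS'
  have hone : ∀ g ∈ S, ∀ P : ℤ[X], (∀ j : ℕ, (Nat.card G).Coprime j → α (g ^ j) = aeval (ζ ^ j) P) →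
      α g ≠ 0 → aeval ζ P ≠ 0 := fun g _ P h hg => by
    have := h 1 (Nat.coprime_one_right _)
    rw [pow_one, pow_one] at this
    rwa [← this]
  have hst : ∀ j : ℕ, (Nat.card G).Coprime j → ∀ g ∈ S', g ^ j ∈ S' := by
    intro j hj g hg
    rw [hS', Finset.mem_filter] at hg ⊢
    obtain ⟨P, hPj⟩ := hP g hg.1
    refine ⟨hS j hj g hg.1, ?_⟩
    rw [hPj j hj]
    exact H19.aeval_ne_zero_of_conj hn hζ (hζ.pow_of_coprime j hj.symm) P (hone g hg.1 P hPj hg.2)
  have hperm : ∀ j ∈ H19.units' (Nat.card G),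
      ∑ g ∈ S', ‖α (g ^ j)‖ ^ 2 = ∑ g ∈ S', ‖α g‖ ^ 2 := by
    intro j hj
    have hc := (H19.mem_units'.mp hj).2
    have himg : S'.image (fun g => g ^ j) = S' := Finset.eq_of_subset_of_card_le
      (Finset.image_subset_iff.mpr fun g hg => hst j hc g hg)
      (le_of_eq (Finset.card_image_of_injective S' (powCoprime hc).injective).symm)
    conv_rhs => rw [← himg]
    exact (Finset.sum_image (f := fun g => ‖α g‖ ^ 2) (g := fun g : G => g ^ j)
      fun a _ b _ hab => (powCoprime hc).injective hab).symm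
  have h1 : ((Nat.card G).totient : ℝ) * S'.card ≤
      ((Nat.card G).totient : ℝ) * ∑ g ∈ S', ‖α g‖ ^ 2 := by
    calc ((Nat.card G).totient : ℝ) * S'.card = ∑ g ∈ S', ((Nat.card G).totient : ℝ) := by
          rw [Finset.sum_const, nsmul_eq_mul, mul_comm]
      _ ≤ ∑ g ∈ S', ∑ j ∈ H19.units' (Nat.card G), ‖α (g ^ j)‖ ^ 2 := by
          refine Finset.sum_le_sum fun g hg => ?_
          rw [hS', Finset.mem_filter] at hg
          obtain ⟨P, hPj⟩ := hP g hg.1
          refine (H19.totient_le_sum_normSq hn hζ P (hone g hg.1 P hPj hg.2)).trans (le_of_eq ?_)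
          exact Finset.sum_congr rfl fun j hj => by rw [hPj j (H19.mem_units'.mp hj).2]
      _ = ∑ j ∈ H19.units' (Nat.card G), ∑ g ∈ S', ‖α g‖ ^ 2 := by
          rw [Finset.sum_comm]; exact Finset.sum_congr rfl hperm
      _ = _ := by rw [Finset.sum_const, H19.card_units', nsmul_eq_mul]
  calc (S'.card : ℝ) ≤ ∑ g ∈ S', ‖α g‖ ^ 2 :=
        le_of_mul_le_mul_left h1 (by exact_mod_cast Nat.totient_pos.mpr hn)
    _ ≤ _ := Finset.sum_le_sum_of_subset_of_nonneg (Finset.filter_subset _ _)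
        fun _ _ _ => sq_nonneg _

variable {G : Type u} [Group G] [Finite G]

/-- A character constant on `p`-singular elements is congruent to that constant modulo `p` at
elements centralising an element of order `p`. -/
theorem exists_quot_poly {χ : G → ℂ} (hχ : IsCharacter G χ) {p : ℕ} (hp : p.Prime) (δ : ℤ)
    (hδ : δ = 1 ∨ δ = -1) (hsing : ∀ g : G, p ∣ orderOf g → χ g = (δ : ℂ)) {y g : G} {e : ℕ}
    (hy : orderOf y = p ^ e) (he : e ≠ 0) (hc : Commute g y) {ζ : ℂ} (hζ : IsPrimitiveRoot ζ (Nat.card G)) :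
    ∃ P : ℤ[X], ∀ j : ℕ, (Nat.card G).Coprime j →
      ((δ : ℂ) * χ (g ^ j) - 1) / ((p ^ e : ℕ) : ℂ) = aeval (ζ ^ j) P := by
  classical
  have hδ2 : (δ : ℂ) * δ = 1 := by rcases hδ with rfl | rfl <;> simp
  have hp0 : ((p ^ e : ℕ) : ℂ) ≠ 0 := Nat.cast_ne_zero.mpr (pow_ne_zero _ hp.ne_zero)
  by_cases hpg : p ∣ orderOf g
  · refine ⟨0, fun j hj => ?_⟩
    rw [hsing _ (by rwa [Nat.Coprime.orderOf_pow (Nat.Coprime.of_dvd_left (orderOf_dvd_natCard g) hj)]),
      hδ2, sub_self, zero_div, map_zero]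
  obtain ⟨d, ρ, rfl⟩ := hχ
  set z := g * y with hz
  obtain ⟨μ, h1, h2, -⟩ := H12.exists_char_eigenvalues ρ z
  haveI : NeZero (Nat.card G) := ⟨Nat.card_pos.ne'⟩
  have : ∀ i, ∃ k, k < Nat.card G ∧ ζ ^ k = μ i := fun i => by
    refine hζ.eq_pow_of_pow_eq_one ?_
    obtain ⟨c, hc⟩ := orderOf_dvd_natCard z
    rw [hc, pow_mul, h1 i, one_pow]
  choose k hk hk' using this
  -- `g` and `y` as powers of `z`
  have hcop : p.Coprime (orderOf g) := hp.coprime_iff_not_dvd.mpr hpg
  obtain ⟨m, hm⟩ := exists_pow_eq_self_of_coprime (hcop.pow_left e)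
  obtain ⟨m', hm'⟩ := exists_pow_eq_self_of_coprime (x := y) (n := orderOf g) (hy ▸ hcop.symm.pow_right e)
  have hg : z ^ (p ^ e * m) = g := by
    rw [pow_mul, hz, hc.mul_pow, ← hy, pow_orderOf_eq_one, mul_one, hy, hm]
  have hyz : z ^ (orderOf g * m') = y := by
    rw [pow_mul, hz, hc.mul_pow, pow_orderOf_eq_one, one_mul, hm']
  set a := p ^ e * m with ha
  set c := orderOf g * m' with hcdef
  have hμc : ∀ i, (μ i ^ c) ^ (p ^ e) = 1 := fun i => by
    obtain ⟨q, hq⟩ := orderOf_dvd_of_pow_eq_one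
      (show z ^ (c * p ^ e) = 1 by rw [pow_mul, hyz, ← hy, pow_orderOf_eq_one])
    rw [← pow_mul, hq, pow_mul, h1 i, one_pow]
  set T := Finset.univ.filter fun i => μ i ^ c = 1 with hT
  refine ⟨C δ * (∑ i ∈ T, X ^ (k i * a)) - 1, fun j hj => ?_⟩
  have hsum : ∑ i ∈ Finset.range (p ^ e), ρ.character (g ^ j * y ^ i) =
      ((p ^ e : ℕ) : ℂ) * aeval (ζ ^ j) (∑ i ∈ T, X ^ (k i * a) : ℤ[X]) := by
    have : ∀ i, ρ.character (g ^ j * y ^ i) = ∑ l, (μ l ^ a) ^ j * (μ l ^ c) ^ i := fun i => by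
      rw [← hg, ← hyz, ← pow_mul, ← pow_mul, ← pow_add, h2]
      exact Finset.sum_congr rfl fun l _ => by rw [← pow_mul, ← pow_mul, ← pow_add]
    simp only [this]
    rw [Finset.sum_comm, map_sum, Finset.mul_sum, hT, Finset.sum_filter]
    refine Finset.sum_congr rfl fun l _ => ?_
    rw [← Finset.mul_sum]
    split_ifs with h
    · simp only [h, one_pow, Finset.sum_const, Finset.card_range, nsmul_one, map_pow, aeval_X]
      rw [← hk' l, ← pow_mul, ← pow_mul, ← pow_mul]
      ring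
    · rw [geom_sum_eq h, hμc l, sub_self, zero_div, mul_zero]
  have hrest : ∑ i ∈ Finset.range (p ^ e), ρ.character (g ^ j * y ^ i) =
      ρ.character (g ^ j) + (((p ^ e : ℕ) : ℂ) - 1) * δ := by
    obtain ⟨q, hq⟩ : ∃ q, p ^ e = q + 1 := ⟨p ^ e - 1, by have := pow_pos hp.pos e; omega⟩
    rw [hq, Finset.sum_range_succ', pow_zero, mul_one, add_comm, Finset.sum_congr rfl (g := fun _ => (δ : ℂ))]
    · simp
    · intro i hi
      rw [Finset.mem_range] at hi
      apply hsing
      set x := g ^ j * y ^ (i + 1)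
      have hx : x ^ orderOf g = y ^ ((i + 1) * orderOf g) := by
        rw [(hc.pow_pow j (i + 1)).mul_pow, ← pow_mul, ← pow_mul, mul_comm j, pow_mul g,
          pow_orderOf_eq_one, one_pow, one_mul]
      refine dvd_trans ?_ (orderOf_pow_dvd (x := x) (orderOf g))
      rw [hx]
      have hlt : ¬ p ^ e ∣ (i + 1) * orderOf g := fun hd => by
        have := Nat.le_of_dvd (Nat.succ_pos i) ((hcop.pow_left e).dvd_of_dvd_mul_right hd)
        omega
      by_contra hnd
      obtain ⟨k', hk'1, hk'2⟩ := (Nat.dvd_prime_pow hp).mp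
        (hy ▸ orderOf_pow_dvd (x := y) ((i + 1) * orderOf g))
      rcases Nat.eq_zero_or_pos k' with rfl | hpos
      · rw [pow_zero, orderOf_eq_one_iff, ← orderOf_dvd_iff_pow_eq_one, hy] at hk'2
        exact hlt hk'2
      · exact hnd (hk'2 ▸ dvd_pow_self p hpos.ne')
  rw [hrest] at hsum
  rw [map_sub, map_mul, map_one, aeval_C, eq_intCast]
  have : ρ.character (g ^ j) =
      ((p ^ e : ℕ) : ℂ) * aeval (ζ ^ j) (∑ i ∈ T, X ^ (k i * a) : ℤ[X]) - (((p ^ e : ℕ) : ℂ) - 1) * δ := by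
    rw [← hsum]; ring
  rw [this, div_eq_iff hp0]
  linear_combination (-(((p ^ e : ℕ) : ℂ) - 1)) * hδ2

/-- Galois conjugates of elements where a character takes a rational value. -/
theorem value_pow {χ : G → ℂ} (hχ : IsCharacter G χ) (δ : ℤ) (g : G) (h : χ g = (δ : ℂ))
    {ζ : ℂ} (hζ : IsPrimitiveRoot ζ (Nat.card G)) {j : ℕ} (hj : (Nat.card G).Coprime j) :
    χ (g ^ j) = (δ : ℂ) := by
  obtain ⟨P, hP⟩ := H19.exists_poly hχ Nat.card_pos.ne' hζ g pow_card_eq_one'
  by_contra hne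
  have h1 : aeval (ζ ^ j) (P - C δ) ≠ 0 := by
    rw [map_sub, aeval_C, eq_intCast, ← hP j]; exact sub_ne_zero.mpr hne
  have := H19.aeval_ne_zero_of_conj Nat.card_pos (hζ.pow_of_coprime j hj.symm) hζ (P - C δ) h1
  rw [map_sub, aeval_C, eq_intCast] at this
  have h2 := hP 1
  rw [pow_one, pow_one] at h2
  exact this (by rw [← h2, h, sub_self])

theorem coreKill_aux (hcyc : OddCyclic G) (D : SDCore G) (hTriple : TripleStmt.{u})
    (hCount : CountStmt.{u}) (hMean : MeanStmt.{u}) (hRank : RankStmt.{u}) (hOrbit : OrbitStmt.{u}) :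
    False := by
  classical
  letI := Fintype.ofFinite G
  haveI : Fact D.p.Prime := ⟨D.hp⟩
  have hp2 : D.p ≠ 2 := p_odd D
  have hp3 := p_three_le D
  set O := Nat.card D.O with hOdef
  have hO3' : 3 ≤ O := O_three D
  obtain ⟨Mp, hMp⟩ := H22.exists_isPModular D.p D.hp
  obtain ⟨M₂, hM₂⟩ := H22.exists_isPModular 2 Nat.prime_two
  obtain ⟨T⟩ := hTriple G D.p Mp hMp hp2 D.P D.cyc D.relIndex_two
  obtain ⟨a, ha, hb0, hb1, -, -, hEq⟩ :=
    hCount G D.p Mp hMp hp2 D.P D.cyc T D.t D.y D.t_ord D.one D.y_mem D.y_ord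
  rw [cent_y_card, D.card_ct, D.inv_count] at hEq
  set f : G → ℂ := fun g => (T.δ : ℂ) * (T.lam : G → ℂ) g with hf
  have hδ2 : (T.δ : ℂ) * T.δ = 1 := by rcases T.δ_eq with h | h <;> simp [h]
  have hfsing : ∀ g : G, D.p ∣ orderOf g → f g = 1 := fun g hg => by
    rw [hf]; dsimp only; rw [T.lam_sing g hg, hδ2]
  have hfconj : ∀ x g : G, f (x * g * x⁻¹) = f g := fun x g => by
    simp only [hf, H12.irr_isClassFunction T.lam g x]
  haveI := D.cyc
  letI : CommGroup (D.P : Subgroup G) := IsCyclic.commGroup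
  have ht_not : ¬ D.p ∣ orderOf D.t := by
    rw [D.t_ord]; intro h; have := Nat.le_of_dvd (by norm_num) h; omega
  have hcommty := comm_t_y D
  have hty : D.p ∣ orderOf (D.t * D.y) := by
    rw [hcommty.orderOf_mul_eq_mul_orderOf_of_coprime (by
      rw [D.t_ord, D.y_ord]; exact (Nat.coprime_primes Nat.prime_two D.hp).mpr hp2.symm), D.y_ord]
    exact dvd_mul_left _ _
  -- second main theorem at `t` and `c`
  have mean_t := hMean G M₂ hM₂ D.t ⟨1, by rw [D.t_ord, pow_one]⟩ D.O D.W D.O_le_W D.W_le D.O_norm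
    D.W_norm D.O_odd ⟨3, by rw [D.W_index]; rfl⟩ D.W_self
  have mean_c := hMean G M₂ hM₂ D.c ⟨3, by rw [D.c_ord]; rfl⟩ ⊥ (centralizer ({D.c} : Set G))
    bot_le le_rfl (fun x _ => Subgroup.mem_normalizer_iff.mpr fun h => by simp) Subgroup.le_normalizer
    (by rw [card_bot]; exact odd_one) ⟨3, by rw [relIndex_bot_left, D.card_cc]; rfl⟩ (fun g hg _ => hg)
  -- an exceptional character outside the principal 2-block
  obtain ⟨ψ, hψ1, hζB⟩ : ∃ ψ, ψ ≠ 1 ∧ T.ζ ψ ∉ principalBlock M₂ G := by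
    by_cases h3 : D.p = 3
    · have h9 := D.card_P3 h3
      exact hOrbit G D.p M₂ Mp hM₂ hMp hp2 D.P D.cyc T (by omega)
        (hRank G M₂ hM₂ D.S (Or.inr D.qd))
    set yP : (D.P : Subgroup G) := ⟨D.y, D.y_mem⟩ with hyP
    have hyP1 : yP ≠ 1 := fun h => y_ne D (congrArg Subtype.val h)
    haveI : NeZero (Monoid.exponent (D.P : Subgroup G)) := ⟨Monoid.exponent_ne_zero_of_finite⟩
    obtain ⟨ψ, hψy⟩ := CommGroup.exists_apply_ne_one_of_hasEnoughRootsOfUnity
      (D.P : Subgroup G) ℂ hyP1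
    have hψ1 : ψ ≠ 1 := fun h => hψy (by rw [h]; rfl)
    have hyPp : yP ^ D.p = 1 := by
      apply Subtype.ext
      rw [SubgroupClass.coe_pow, hyP, OneMemClass.coe_one]
      exact orderOf_dvd_iff_pow_eq_one.mp (dvd_of_eq D.y_ord)
    refine ⟨ψ, hψ1, ?_⟩
    intro hmem
    have e1 := mean_t.2 _ hmem D.y D.y_O
    have e2 := mean_t.2 _ hmem (D.y ^ 2) (pow_mem D.y_O 2)
    have s1 := T.ζ_sing ψ hψ1 yP hyP1 D.t hcommty.symm ht_not
    have hy21 : yP ^ 2 ≠ 1 := fun h => hyP1 (by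
      rw [← orderOf_eq_one_iff]
      exact Nat.eq_one_of_dvd_coprimes ((Nat.coprime_primes Nat.prime_two D.hp).mpr hp2.symm)
        (orderOf_dvd_of_pow_eq_one h) (orderOf_dvd_of_pow_eq_one hyPp))
    have s2 := T.ζ_sing ψ hψ1 (yP ^ 2) hy21 D.t (by
      show Commute ((yP ^ 2 : (D.P : Subgroup G)) : G) D.t
      rw [SubgroupClass.coe_pow]; exact hcommty.symm.pow_left 2) ht_not
    simp only [SubgroupClass.coe_pow, hyP] at s1 s2
    rw [← hcommty.eq, e1] at s1
    rw [← (hcommty.pow_right 2).eq, e2, s1, ← hyP, map_pow] at s2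
    set ω : ℂ := (ψ yP : ℂ) with hω
    have hω0 : ω ≠ 0 := Units.ne_zero _
    have hωp : ω ^ D.p = 1 := by
      rw [hω, ← Units.val_pow_eq_pow_val, ← map_pow, hyPp, map_one, Units.val_one]
    have hε : (T.ε : ℂ) ≠ 0 := by rcases T.ε_eq with h | h <;> simp [h]
    have heq := mul_left_cancel₀ hε s2
    simp only [Units.val_inv_eq_inv_val, Units.val_pow_eq_pow_val, ← hω] at heq
    have hfac : (ω - 1) * (ω ^ 3 - 1) = 0 := by
      field_simp at heq
      linear_combination -heq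
    apply hψy
    apply Units.val_injective
    rw [Units.val_one, ← hω]
    rcases mul_eq_zero.mp hfac with h | h
    · exact sub_eq_zero.mp h
    · rw [← orderOf_eq_one_iff]
      exact Nat.eq_one_of_dvd_coprimes ((Nat.coprime_primes Nat.prime_three D.hp).mpr (Ne.symm h3))
        (orderOf_dvd_of_pow_eq_one (sub_eq_zero.mp h)) (orderOf_dvd_of_pow_eq_one hωp)
  have hcp : ¬ D.p ∣ orderOf D.c := by
    rw [D.c_ord, show (8 : ℕ) = 2 ^ 3 by norm_num]
    intro h
    exact hp2 ((Nat.prime_dvd_prime_iff_eq D.hp Nat.prime_two).mp (D.hp.dvd_of_dvd_pow h))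
  have hfc : f D.c = -1 := by
    have h0 := mean_c.1 _ hζB
    rw [finsum_unique] at h0
    have hd : ((default : (⊥ : Subgroup G)) : G) = 1 := mem_bot.mp (default : (⊥ : Subgroup G)).2
    rw [hd, mul_one] at h0
    have := T.rel ψ hψ1 D.c hcp
    rw [h0, mul_zero] at this
    show (T.δ : ℂ) * _ = -1
    linear_combination this
  have hlamB : T.lam ∈ principalBlock M₂ G := by
    by_contra hnot
    have h0 := mean_c.1 _ hnot
    rw [finsum_unique] at h0
    have hd : ((default : (⊥ : Subgroup G)) : G) = 1 := mem_bot.mp (default : (⊥ : Subgroup G)).2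
    rw [hd, mul_one] at h0
    rw [hf] at hfc
    dsimp only at hfc
    rw [h0, mul_zero] at hfc
    norm_num at hfc
  have ha1 : a = 1 := by
    have e1 := mean_t.2 _ hlamB D.y D.y_O
    rw [T.lam_sing _ hty] at e1
    rw [← e1, hδ2] at ha
    exact_mod_cast ha.symm
  subst ha1
  have h4 : orderOf (D.c ^ 2) = 4 := by
    rw [orderOf_pow_of_dvd (by norm_num) (by rw [D.c_ord]; norm_num), D.c_ord]
  have hrel : D.O.relIndex (centralizer ({D.c ^ 2} : Set G)) = 8 := by
    have h1 := (D.O.subgroupOf (centralizer ({D.c ^ 2} : Set G))).card_mul_index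
    rw [Nat.card_congr (subgroupOfEquivOfLe (O_le_cw D)).toEquiv, D.card_cw, mul_comm 8] at h1
    exact Nat.eq_of_mul_eq_mul_left Nat.card_pos h1
  have mean_w := hMean G M₂ hM₂ (D.c ^ 2) ⟨2, by rw [h4]; rfl⟩ D.O
    (centralizer ({D.c ^ 2} : Set G)) (O_le_cw D) le_rfl ((cw_le D).trans D.O_norm)
    Subgroup.le_normalizer D.O_odd ⟨3, by rw [hrel]; rfl⟩ (fun g hg _ => hg)
  have hf4 : f (D.c ^ 2) = 1 := by
    have e1 := mean_w.2 _ hlamB D.y D.y_O
    have hd : D.p ∣ orderOf (D.c ^ 2 * D.y) := by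
      rw [(c2_comm_O D D.y_O).orderOf_mul_eq_mul_orderOf_of_coprime (by
        rw [h4, D.y_ord, show (4 : ℕ) = 2 ^ 2 by norm_num]
        exact ((Nat.coprime_primes Nat.prime_two D.hp).mpr hp2.symm).pow_left 2), D.y_ord]
      exact dvd_mul_left _ _
    rw [T.lam_sing _ hd] at e1
    show (T.δ : ℂ) * _ = 1
    rw [← e1, hδ2]
  have hft : ∀ w ∈ D.O, f (D.t * w) = 1 ∧ f (D.c ^ 2 * w) = 1 := by
    intro w hw
    refine ⟨?_, ?_⟩
    · show (T.δ : ℂ) * _ = 1
      rw [mean_t.2 _ hlamB w hw, ha, Int.cast_one]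
    · rw [← hf4]
      show (T.δ : ℂ) * _ = (T.δ : ℂ) * _
      rw [mean_w.2 _ hlamB w hw]
  have hf8 : ∀ g : G, orderOf g = 8 → f g = -1 := by
    intro g hg
    rcases D.eight_conj g hg with e | e <;> obtain ⟨x, hx⟩ := isConj_iff.mp e
    · rw [← hfconj x g, hx, hfc]
    · rw [← hfconj x g, hx]
      show (T.δ : ℂ) * _ = -1
      rw [H12.irr_inv T.lam D.c]
      have := congrArg conj hfc
      simp only [hf, map_mul, map_intCast, map_neg, map_one] at this
      exact this
  -- arithmetic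
  set b := T.b with hbdef
  set m := (centralizer ({D.t} : Set G)).index with hmdef
  have hGm : Nat.card G = 48 * O * m := by
    rw [← D.card_ct, hmdef, card_mul_index]
  have hm0 : m ≠ 0 := index_ne_zero_of_finite
  have hO0 : O ≠ 0 := by omega
  have hvG : ∀ q : ℕ, (Nat.card G).factorization q =
      (48 : ℕ).factorization q + O.factorization q + m.factorization q := fun q => by
    rw [hGm, Nat.factorization_mul (by positivity) hm0, Nat.factorization_mul (by norm_num) hO0]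
    simp
  have h48 : ∀ q : ℕ, (48 : ℕ).factorization q =
      (if q = 2 then 4 else 0) + (if q = 3 then 1 else 0) := fun q => by
    rw [show (48 : ℕ) = 2 ^ 4 * 3 by norm_num, Nat.factorization_mul (by norm_num) (by norm_num),
      Nat.prime_two.factorization_pow, Nat.prime_three.factorization]
    simp [Finsupp.single_apply, eq_comm]
  have hO2 : Odd O := D.O_odd
  have hm2 : Odd m := by
    rw [← Nat.not_even_iff_odd, even_iff_two_dvd]
    intro h
    have := Nat.Prime.factorization_pos_of_dvd Nat.prime_two hm0 h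
    have h2 := hvG 2
    rw [D.two_part, h48] at h2
    simp at h2
    omega
  have hm3 : m.Coprime 3 := by
    rw [Nat.coprime_comm, Nat.prime_three.coprime_iff_not_dvd]
    intro h
    have := Nat.Prime.factorization_pos_of_dvd Nat.prime_three hm0 h
    have h2 := hvG 3
    rw [D.three_part, ← hOdef, h48] at h2
    simp at h2
    omega
  have hmO : m.Coprime O := by
    refine Nat.coprime_of_dvd fun q hq hqm hqO => ?_
    have := Nat.Prime.factorization_pos_of_dvd hq hm0 hqm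
    have h2 := hvG q
    have hq3 : q ≠ 3 := fun e => hq.ne_one
      (Nat.eq_one_of_dvd_coprimes hm3 hqm (e ▸ dvd_refl q))
    rw [D.part_eq q hq hq3 hqO, ← hOdef] at h2
    omega
  have hArith : (b - 1).natAbs = 24 * O ∧ b.natAbs * (b + 1).natAbs = 2 * m := by
    refine core_arith hO2 hm2 hm3 hmO ?_ hb0 hb1
    refine mul_right_cancel₀ (b := (24 * O : ℤ)) (by positivity) ?_
    have hG' : (Nat.card G : ℤ) = 48 * O * m := by rw [hGm]; push_cast; ring
    rw [hG'] at hEq
    push_cast at hEq ⊢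
    linear_combination hEq
  obtain ⟨hu, hv⟩ := hArith
  set B := b.natAbs with hBdef
  obtain ⟨C', hC'⟩ : 2 ∣ (b + 1).natAbs := by omega
  have hBodd : Odd B := Nat.odd_iff.mpr (by omega)
  have hBC : B * C' = m := by rw [hC'] at hv; nlinarith
  have hBC' : B.Coprime C' := by
    refine Nat.coprime_of_dvd fun q hq hqB hqC => ?_
    have a1 : (q : ℤ) ∣ b := Int.natCast_dvd.mpr hqB
    have a2 : (q : ℤ) ∣ b + 1 := Int.natCast_dvd.mpr (hC' ▸ dvd_mul_of_dvd_right hqC 2)
    have := dvd_sub a2 a1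
    rw [add_sub_cancel_left] at this
    exact hq.ne_one (Nat.dvd_one.mp (by exact_mod_cast this))
  have hB48 : B.Coprime (48 * O) := by
    have hBm : B ∣ m := ⟨C', hBC.symm⟩
    refine Nat.Coprime.mul_right ?_ (hmO.coprime_dvd_left hBm)
    rw [show (48 : ℕ) = 2 ^ 4 * 3 by norm_num]
    exact ((Nat.coprime_two_right.mpr hBodd).pow_right 4).mul_right (hm3.coprime_dvd_left hBm)
  have hC48 : C'.Coprime (48 * O) := by
    have hCm : C' ∣ m := ⟨B, by rw [← hBC]; ring⟩
    refine Nat.Coprime.mul_right ?_ (hmO.coprime_dvd_left hCm)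
    rw [show (48 : ℕ) = 2 ^ 4 * 3 by norm_num]
    exact ((Nat.coprime_two_right.mpr (hm2.of_dvd_nat hCm)).pow_right 4).mul_right
      (hm3.coprime_dvd_left hCm)
  have hGfac : Nat.card G = 48 * O * B * C' := by rw [hGm, ← hBC]; ring
  have hfull : ∀ {A R s : ℕ}, Nat.card G = A * R → A.Coprime R → s.Prime → s ∣ A →
      s ^ (Nat.card G).factorization s ∣ A := by
    intro A R s hAR hcop hs hd
    have hsR : s.Coprime R := hcop.coprime_dvd_left hd
    exact (hsR.pow_left _).dvd_of_dvd_mul_right (hAR ▸ Nat.ordProj_dvd _ _)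
  have hlamdeg : charDegree (T.lam : G → ℂ) = B := by
    rw [hBdef, hbdef, Triple.b, Int.natAbs_mul]
    rcases T.δ_eq with h | h <;> simp [h]
  have hf1 : f 1 = (b : ℂ) := by
    simp only [hf, hbdef, Triple.b]
    rw [H12.irr_apply_one T.lam]
    push_cast
    rfl
  have hζdeg : charDegree (T.ζ ψ : G → ℂ) = (b + 1).natAbs := by
    have := T.rel ψ hψ1 1 (by rw [orderOf_one]; exact D.hp.not_dvd_one)
    rw [show (T.δ : ℂ) * (T.lam : G → ℂ) 1 = b from hf1, H12.irr_apply_one (T.ζ ψ)] at this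
    have h' : 1 + b = T.ε * (charDegree (T.ζ ψ : G → ℂ) : ℤ) := by exact_mod_cast this
    rw [add_comm b, h', Int.natAbs_mul]
    rcases T.ε_eq with h | h <;> simp [h]
  have hZ : ∀ g : G, (∃ s, s.Prime ∧ s ∣ B ∧ s ∣ orderOf g) → f g = 0 := by
    rintro g ⟨s, hs, hsB, hsg⟩
    have := DefZero.vanish T.lam hs (by
      rw [hlamdeg]
      exact hfull (A := B) (R := 48 * O * C') (by rw [hGfac]; ring) (hB48.mul_right hBC') hs hsB) hsg
    simp [hf, this]
  have hC : ∀ g : G, (∃ s, s.Prime ∧ s ∣ C' ∧ s ∣ orderOf g) → f g = -1 := by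
    rintro g ⟨s, hs, hsC, hsg⟩
    have hreg : ¬ D.p ∣ orderOf g := by
      intro hpg
      obtain ⟨x, hx⟩ := conj_K_of_dvd D hcyc D.hp D.hpO hpg
      have hd := K_ord D hx
      rw [orderOf_conj] at hd
      refine hs.ne_one (Nat.eq_one_of_dvd_coprimes hC48 hsC ?_)
      exact (hsg.trans hd).trans ⟨2, by ring⟩
    have h0 := DefZero.vanish (T.ζ ψ) hs (by
      rw [hζdeg]
      exact (hfull (A := C') (R := 48 * O * B) (by rw [hGfac]; ring) (hC48.mul_right hBC'.symm)
        hs hsC).trans ⟨2, by rw [hC']; ring⟩) hsg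
    have := T.rel ψ hψ1 g hreg
    rw [h0, mul_zero] at this
    show (T.δ : ℂ) * _ = -1
    linear_combination this
  -- the partition
  have hB1 : 1 < B := by omega
  let Zs : Finset G := Finset.univ.filter fun g => ∃ s, s.Prime ∧ s ∣ B ∧ s ∣ orderOf g
  let Us : Finset G := Finset.univ.filter fun g => IsU D g
  let Ns : Finset G := Finset.univ.filter fun g => g ≠ 1 ∧ g ∉ Us ∧ g ∉ Zs
  have mZ : ∀ g, g ∈ Zs ↔ ∃ s, s.Prime ∧ s ∣ B ∧ s ∣ orderOf g := fun g => by simp [Zs]
  have mU : ∀ g, g ∈ Us ↔ IsU D g := fun g => by simp [Us]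
  have mN : ∀ g, g ∈ Ns ↔ g ≠ 1 ∧ g ∉ Us ∧ g ∉ Zs := fun g => by simp [Ns]
  have hN : ∀ g ∈ Ns, f g = -1 := by
    intro g hg
    obtain ⟨h1, hU, hZn⟩ := (mN g).mp hg
    by_cases h8 : orderOf g = 8
    · exact hf8 g h8
    obtain ⟨s, hs, hsg, hs6⟩ : ∃ s, s.Prime ∧ s ∣ orderOf g ∧ ¬ s ∣ 6 * O := by
      by_contra hcon
      push Not at hcon
      exact hU ((mU g).mpr ⟨h1, h8, hcon⟩)
    have hd : s ∣ 48 * O * B * C' := hGfac ▸ hsg.trans (orderOf_dvd_natCard g)
    refine hC g ⟨s, hs, ?_, hsg⟩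
    rcases hs.dvd_mul.mp hd with h | h
    · rcases hs.dvd_mul.mp h with h | h
      · exfalso
        rcases hs.dvd_mul.mp h with h | h
        · rw [show (48 : ℕ) = 8 * 6 by norm_num] at h
          rcases hs.dvd_mul.mp h with h | h
          · exact hs6 (dvd_mul_of_dvd_left
              ((hs.dvd_of_dvd_pow (m := 2) (n := 3) (by simpa using h)).trans (by norm_num)) _)
          · exact hs6 (dvd_mul_of_dvd_left h _)
        · exact hs6 (dvd_mul_of_dvd_right h _)
      · exact absurd ((mZ g).mpr ⟨s, hs, h, hsg⟩) hZn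
    · exact h
  have hUZ : ∀ g ∈ Us, g ∉ Zs := by
    intro g hg hgZ
    obtain ⟨s, hs, hsB, hsg⟩ := (mZ g).mp hgZ
    exact hs.ne_one (Nat.eq_one_of_dvd_coprimes hB48 hsB
      ((((mU g).mp hg).2.2 s hs hsg).trans ⟨8, by ring⟩))
  have split : ∀ F : G → ℝ,
      ∑ g, F g = F 1 + ∑ g ∈ Zs, F g + ∑ g ∈ Us, F g + ∑ g ∈ Ns, F g := by
    intro F
    have h1Z : (1 : G) ∉ Zs := by
      rw [mZ]; rintro ⟨s, hs, -, h⟩; rw [orderOf_one] at h; exact hs.not_dvd_one h
    have h1U : (1 : G) ∉ Us := by rw [mU]; exact fun h => h.1 rfl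
    have : (Finset.univ : Finset G) = insert 1 (Zs ∪ Us ∪ Ns) := by
      ext g; simp only [Finset.mem_univ, Finset.mem_insert, Finset.mem_union, mN, true_iff]; tauto
    rw [this, Finset.sum_insert (by simp [h1Z, h1U, mN]),
      Finset.sum_union (Finset.disjoint_left.mpr fun g hg hgN => by
        rcases Finset.mem_union.mp hg with h | h
        · exact ((mN g).mp hgN).2.2 h
        · exact ((mN g).mp hgN).2.1 h),
      Finset.sum_union (Finset.disjoint_left.mpr fun g hg hgU => hUZ g hgU hg)]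
    ring
  -- the values on `U`
  obtain ⟨u, e, hue, he0, hn5, hUu⟩ : ∃ (u : G) (e : ℕ), orderOf u = D.p ^ e ∧ e ≠ 0 ∧
      5 ≤ D.p ^ e ∧ ∀ g ∈ Us, f g = 1 ∨ ∃ x : G, Commute (x * g * x⁻¹) u := by
    by_cases h3 : D.p = 3
    · obtain ⟨u, hu⟩ := IsCyclic.exists_ofOrder_eq_natCard (α := (D.P : Subgroup G))
      obtain ⟨e, he⟩ := IsPGroup.iff_card.mp D.P.isPGroup'
      have h9 := D.card_P3 h3
      have hue : orderOf (u : G) = D.p ^ e := by rw [Subgroup.orderOf_coe, hu, he]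
      refine ⟨u, e, hue, fun e0 => ?_, by rw [← he]; omega, fun g hg => ?_⟩
      · rw [he, e0, pow_zero] at h9; omega
      have huK : (u : G) ∈ D.K := by
        rw [← cent_y, mem_centralizer_one]
        exact congrArg Subtype.val (mul_comm u ⟨D.y, D.y_mem⟩)
      by_cases hg3 : 3 ∣ orderOf g
      · exact Or.inl (hfsing g (h3 ▸ hg3))
      obtain ⟨x, hx | ⟨v, w, hv, hw, hx⟩⟩ := isU_three D hcyc ((mU g).mp hg) hg3
      · refine Or.inr ⟨x, ?_⟩
        have hne : x * g * x⁻¹ ≠ 1 := fun e1 => ((mU g).mp hg).1 (conj_eq_one_iff.mp e1)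
        rw [← D.cent_o _ hx hne, mem_centralizer_one] at huK
        exact huK.symm
      · refine Or.inl ?_
        rw [← hfconj x g, hx]
        rcases hv with rfl | rfl
        · exact (hft w hw).1
        · exact (hft w hw).2
    · refine ⟨D.y, 1, by rw [D.y_ord, pow_one], one_ne_zero, ?_, fun g hg => ?_⟩
      · rw [pow_one]
        by_contra h5
        have : D.p = 4 := by omega
        exact absurd (this ▸ D.hp) (by decide)
      · obtain ⟨x, hx⟩ := isU_conj_K D hcyc ((mU g).mp hg)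
        rw [← cent_y, mem_centralizer_one] at hx
        exact Or.inr ⟨x, hx⟩
  set n : ℕ := D.p ^ e with hndef
  set α : G → ℂ := fun g => (f g - 1) / (n : ℂ) with hα
  have hp0 : (n : ℂ) ≠ 0 := Nat.cast_ne_zero.mpr (by omega)
  obtain ⟨ζ0, hζ0⟩ := H19.exists_root (Nat.card G) Nat.card_pos.ne'
  have hcard : ((Us.filter fun g => α g ≠ 0).card : ℝ) ≤ ∑ g ∈ Us, ‖α g‖ ^ 2 := by
    refine card_ne_zero_le α Us hζ0 ?_ ?_
    · intro j hj g hg
      obtain ⟨h1, h8, hs⟩ := (mU g).mp hg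
      have ho : orderOf (g ^ j) = orderOf g :=
        Nat.Coprime.orderOf_pow (Nat.Coprime.of_dvd_left (orderOf_dvd_natCard g) hj)
      refine (mU _).mpr ⟨fun e => h1 ?_, by rwa [ho], by rwa [ho]⟩
      rw [← orderOf_eq_one_iff, ← ho, e, orderOf_one]
    · intro g hg
      rcases hUu g hg with h1 | ⟨x, hx⟩
      · refine ⟨0, fun j hj => ?_⟩
        have hl : (T.lam : G → ℂ) g = (T.δ : ℂ) := by
          have h1' : (T.δ : ℂ) * (T.lam : G → ℂ) g = 1 := h1
          linear_combination (T.δ : ℂ) * h1' - (T.lam : G → ℂ) g * hδ2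
        have := value_pow (H12.isCharacter_irr T.lam) T.δ g hl hζ0 hj
        simp [hα, hf, this, hδ2]
      obtain ⟨P, hP⟩ := exists_quot_poly (H12.isCharacter_irr T.lam) D.hp T.δ T.δ_eq T.lam_sing
        hue he0 hx hζ0
      refine ⟨P, fun j hj => ?_⟩
      rw [← hP j hj, hα]
      dsimp only
      rw [← hfconj x (g ^ j), ← conj_pow]
  have hfU : ∀ g, f g = 1 + (n : ℂ) * α g := fun g => by
    rw [hα]; dsimp only; rw [mul_div_cancel₀ _ hp0]; ring
  set X := ∑ g ∈ Us, ‖α g‖ ^ 2 with hX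
  set R := ∑ g ∈ Us, (α g).re with hR
  have hRX : -X ≤ R := by
    have h1 : ∀ g ∈ Us, -((if α g ≠ 0 then (1 : ℝ) else 0) + ‖α g‖ ^ 2) / 2 ≤ (α g).re := by
      intro g _
      have := Complex.abs_re_le_norm (α g)
      rw [abs_le] at this
      split_ifs with h
      · nlinarith [sq_nonneg (‖α g‖ - 1)]
      · simp [not_not.mp h]
    have h2 := Finset.sum_le_sum h1
    rw [← Finset.sum_div, Finset.sum_neg_distrib, Finset.sum_add_distrib, Finset.sum_boole, ← hX,
      ← hR] at h2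
    linarith
  have hA : (b : ℝ) + (Us.card + n * R) - Ns.card = 0 := by
    have h0 : ∑ g : G, (f g).re = 0 := by
      rw [← Complex.re_sum, hf, ← Finset.mul_sum]
      have hne : T.lam ≠ H12.oneIrr G := fun h => T.lam_ne (by rw [h]; rfl)
      have := H12.sum_mul_conj_eq_card_mul (T.lam : G → ℂ) (H12.oneIrr G : G → ℂ)
      simp only [H12.oneIrr_apply, map_one, mul_one, H12.classInner_irr_ne hne, mul_zero] at this
      rw [this, mul_zero, Complex.zero_re]
    rw [split, hf1, Complex.intCast_re, Finset.sum_eq_zero (fun g hg => by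
        rw [hZ g ((mZ g).mp hg), Complex.zero_re]),
      Finset.sum_congr rfl (fun g hg => by rw [hN g hg]) (s₁ := Ns)] at h0
    have hUsum : ∑ g ∈ Us, (f g).re = Us.card + n * R := by
      rw [Finset.sum_congr rfl (fun g _ => by
        rw [hfU g, Complex.add_re, Complex.one_re, ← Complex.ofReal_natCast, Complex.re_ofReal_mul]),
        Finset.sum_add_distrib, Finset.sum_const, nsmul_one, ← Finset.mul_sum, hR]
    rw [hUsum, Complex.neg_re, Complex.one_re, Finset.sum_const, nsmul_eq_mul] at h0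
    linarith
  have hB2 : (b : ℝ) ^ 2 + Ns.card + (Us.card + 2 * n * R + (n : ℝ) ^ 2 * X) =
      (Nat.card G : ℝ) := by
    have h0 : ∑ g : G, ‖f g‖ ^ 2 = (Nat.card G : ℝ) := by
      rw [← H19.sum_normSq_irr T.lam (H12.classInner_irr_self T.lam)]
      refine Finset.sum_congr rfl fun g _ => ?_
      rcases T.δ_eq with h | h <;> simp [hf, h]
    rw [split, Finset.sum_eq_zero (s := Zs) (fun g hg => by
        rw [hZ g ((mZ g).mp hg), norm_zero, zero_pow two_ne_zero]),
      Finset.sum_congr rfl (fun g hg => by rw [hN g hg, norm_neg, norm_one, one_pow]) (s₁ := Ns),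
      hf1, Complex.norm_intCast, sq_abs] at h0
    have hUsum : ∑ g ∈ Us, ‖f g‖ ^ 2 = Us.card + 2 * n * R + (n : ℝ) ^ 2 * X := by
      rw [Finset.sum_congr rfl (fun g _ => (show ‖f g‖ ^ 2 =
        1 + 2 * (n : ℝ) * (α g).re + (n : ℝ) ^ 2 * ‖α g‖ ^ 2 by
          rw [hfU g, Complex.sq_norm, Complex.normSq_apply, Complex.sq_norm, Complex.normSq_apply]
          simp [Complex.add_re, Complex.add_im, Complex.mul_re, Complex.mul_im]
          ring))]
      simp only [Finset.sum_add_distrib, Finset.sum_const, nsmul_one, ← Finset.mul_sum, hX, hR]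
    rw [hUsum, Finset.sum_const, nsmul_one] at h0
    linarith
  have htot : 1 + (Zs.card : ℝ) + Us.card + Ns.card = (Nat.card G : ℝ) := by
    have := split (fun _ => 1)
    simp only [Finset.sum_const, nsmul_one, Finset.card_univ, ← Nat.card_eq_fintype_card] at this
    linarith
  -- the lower bound for `U`
  have hUlow : (m : ℝ) * (24 * O - 1) ≤ Us.card := by
    have := isU_card_ge D
    rw [show Nat.card {g : G // IsU D g} = Us.card by
      rw [Nat.card_eq_fintype_card, Fintype.card_subtype]] at this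
    have hcast : ((m * (24 * O - 1) : ℕ) : ℝ) ≤ Us.card := by exact_mod_cast this
    rw [Nat.cast_mul, Nat.cast_sub (by omega), Nat.cast_mul] at hcast
    simpa using hcast
  have hvr : (b : ℝ) * (b + 1) = 2 * m := by
    have : b * (b + 1) = ((2 * m : ℕ) : ℤ) := by
      rw [← hv, hBdef, ← Int.natAbs_mul, Int.natAbs_of_nonneg]
      rcases le_or_gt 0 b with h0 | h0
      · positivity
      · nlinarith
    exact_mod_cast this
  have hGr : (Nat.card G : ℝ) = 48 * O * m := by rw [hGm]; push_cast; ring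
  have hp5r : (5 : ℝ) ≤ n := by exact_mod_cast hn5
  have hX0 : X = 0 := by
    have hXnn : 0 ≤ X := Finset.sum_nonneg fun g _ => sq_nonneg _
    have h1 : (n : ℝ) ^ 2 * X + 3 * n * R ≤ 0 := by nlinarith
    by_contra hne
    have hXpos : 0 < X := lt_of_le_of_ne hXnn (Ne.symm hne)
    nlinarith [mul_pos hXpos (show (0 : ℝ) < (n : ℝ) * (n - 3) by nlinarith)]
  have hR0 : R = 0 := by
    refine Finset.sum_eq_zero fun g hg => ?_
    have := (Finset.sum_eq_zero_iff_of_nonneg fun g _ => sq_nonneg ‖α g‖).mp hX0 g hg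
    simp [sq_eq_zero_iff.mp this |> norm_eq_zero.mp]
  have hZcard : (Zs.card : ℤ) = b ^ 2 - 1 := by
    have : (Zs.card : ℝ) = (b : ℝ) ^ 2 - 1 := by
      rw [hR0] at hA hB2; rw [hX0] at hB2; linarith
    exact_mod_cast this
  -- endgame
  set s := B.minFac with hsdef
  have hs : s.Prime := Nat.minFac_prime (by omega)
  have hsB : s ∣ B := Nat.minFac_dvd B
  have hs2 : s ≠ 2 := fun h => by rw [h] at hsB; have := Nat.odd_iff.mp hBodd; omega
  have hsG : s ∣ Nat.card G := hsB.trans ⟨48 * O * C', by rw [hGfac]; ring⟩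
  obtain ⟨e', he, hle, htop⟩ := singular_count hs (hcyc s hs hs2) hsG
  have hsing : Nat.card {g : G // s ∣ orderOf g} ≤ Zs.card := by
    rw [Nat.card_eq_fintype_card, Fintype.card_subtype]
    exact Finset.card_le_card fun g hg => (mZ g).mpr
      ⟨s, hs, hsB, (Finset.mem_filter.mp hg).2⟩
  have hZnat : Zs.card = (b - 1).natAbs * (b + 1).natAbs := by
    rw [← Int.natAbs_mul, show (b - 1) * (b + 1) = (Zs.card : ℤ) by rw [hZcard]; ring,
      Int.natAbs_natCast]
  have hGB : Nat.card G = B * Zs.card := by rw [hGfac, hZnat, hu, hC']; ring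
  have hZpos : 0 < Zs.card := Nat.pos_of_ne_zero fun h => by
    have := Nat.card_pos (α := G); rw [hGB, h] at this; simp at this
  have hmain : B * (s - 1) ≤ e' * s := by
    refine Nat.le_of_mul_le_mul_left ?_ hZpos
    calc Zs.card * (B * (s - 1)) = Nat.card G * (s - 1) := by rw [hGB]; ring
      _ ≤ e' * s * Nat.card {g : G // s ∣ orderOf g} := hle
      _ ≤ e' * s * Zs.card := Nat.mul_le_mul_left _ hsing
      _ = _ := by ring
  have hs1 : 0 < s - 1 := by have := hs.two_le; omega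
  have hBs : B ≤ s := Nat.le_of_mul_le_mul_right
    (hmain.trans ((Nat.mul_le_mul_right s he).trans (mul_comm _ _).le)) hs1
  have hsEq : s = B := le_antisymm (Nat.le_of_dvd (by omega) hsB) hBs
  have heq : e' = s - 1 := le_antisymm he <| Nat.le_of_mul_le_mul_left
    (by rw [← hsEq] at hmain; exact hmain.trans (mul_comm _ _).le) hs.pos
  obtain ⟨n, hn⟩ := htop heq
  set k := orderOf n with hk
  have hkpos : 0 < k := orderOf_pos n
  have hs1e : 2 ∣ s - 1 := by rw [hsEq]; have := Nat.odd_iff.mp hBodd; omega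
  obtain ⟨w, ⟨i, hi⟩, hw⟩ := exists_pow_orderOf_eq (hs1e.trans hn)
  obtain ⟨x, hx⟩ := isConj_iff.mp (D.one w hw).symm
  have hmem : x * n * x⁻¹ ∈ centralizer ({D.t} : Set G) := by
    rw [mem_centralizer_one, ← hx, commute_conj_iff, hi]
    exact (Commute.refl n).pow_right i
  have hk48 := Subgroup.orderOf_dvd_natCard _ hmem
  rw [orderOf_conj, D.card_ct, ← hk] at hk48
  have hklow : 24 * O - 2 ≤ k := by
    have := Nat.le_of_dvd hkpos hn
    omega
  obtain ⟨j, hj⟩ := hk48
  have hk8 : 8 ∣ k := by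
    have hj2 : j ≤ 2 := by
      by_contra hcon
      have : k * 3 ≤ k * j := Nat.mul_le_mul_left _ (by omega)
      omega
    interval_cases j <;> omega
  have := eight D hk8
  omega

/-- The core configuration does not occur. -/
theorem coreKill (hTriple : TripleStmt.{u}) (hCount : CountStmt.{u}) (hMean : MeanStmt.{u})
    (hRank : RankStmt.{u}) (hOrbit : OrbitStmt.{u}) : CoreKillStmt.{u} :=
  fun _ _ _ h D => coreKill_aux h.odd D hTriple hCount hMean hRank hOrbit

end H17.CSy
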